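import Cfsg.Agent.Cit.Nil.RTwoM.Two.TTypes
import Cfsg.Agent.Cit.Nil.RTwo.SC
import Cfsg.Agent.Cit.Nil.ROne.Count
import Cfsg.Agent.Cit.CoresClose

/-!
# S1309, (6b), (C3), `r = 2`: rotations in `C(T)` ((K), (K') of helper599's CIT-6b-r2-m2)

* `frat` : (Frattini) `S` a Sylow group, `K ≤ S` a member over `z`, `g ∈ N(K)`: some `g' ∈ N(K)` permutes the members in
  `S` and acts on `K` as `g` up to an inner automorphism;
* `exists_rot_of` : a subgroup `H ≤ N(K)` without a fixed axis contains a 3-element rotating `K`;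
* **`WM.kap_S`** : (C3): a 3-element `k ∈ N(K)` rotating `K` and permuting the members in `S` (any `m`);
* **`TW.kap`** (K) : `(z, u)` a C-pair, `K` a member over `z`: a 3-element of `C(z) ∩ C(u)` rotating `K`;
* **`Kp`** (K') : `B, B' ≤ R_z` of order 8, invariant, `B ∩ B' ≠ ⟨z⟩`: `B = B'`; `exists_fix`.
-/

set_option autoImplicit false
set_option linter.style.haveILetI false
set_option linter.unusedSectionVars false

namespace Cfsg.Agent.Cit.Nil.RTwoM.Two

open Subgroup Cfsg Cfsg.Agent.Cit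

open RTwo (Q3 Act)
open RG (WR CP Ov InO Tr)
open RI (CS)

variable {G : Type*} [Group G] {Om : Set (Subgroup G)} {K L M B B' H : Subgroup G}
  {a b c d e i j p q r s t t' t₁ t₂ t₃ u v w x y z z' u' g k n : G}

/-- `k` rotates `K` : 3-element of `N(K) ∩ C(z)` moving all axes -/
structure Rt (z : G) (K : Subgroup G) (k : G) : Prop where
  cz : k * z = z * k
  cK : cj k K = K
  p3 : IsPGroup 3 (zpowers k)
  rot : ∀ y ∈ K, y * y = z → y * (k * y * k⁻¹) ≠ (k * y * k⁻¹) * y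

theorem perm_key : ∀ σ₀ σ₁ : Equiv.Perm (Fin 3), ∀ l : Fin 3, σ₀ 0 ≠ 0 → σ₀ l = l → σ₁ l ≠ l →
    ((∀ i, σ₁ i ≠ i) ∨ ∀ i, (σ₁ * σ₀) i ≠ i) := by
  intro σ₀ σ₁
  have h1 : ∀ σ : Equiv.Perm (Fin 3), (σ 0 ≠ σ 1 ∧ σ 0 ≠ σ 2 ∧ σ 1 ≠ σ 2) := fun σ =>
    ⟨fun h => absurd (σ.injective h) (by decide), fun h => absurd (σ.injective h) (by decide),
      fun h => absurd (σ.injective h) (by decide)⟩
  obtain ⟨a1, a2, a3⟩ := h1 σ₀
  obtain ⟨b1, b2, b3⟩ := h1 σ₁
  have key : ∀ a b c a' b' c' l : Fin 3, a ≠ b → a ≠ c → b ≠ c → a' ≠ b' → a' ≠ c' → b' ≠ c' → a ≠ 0 →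
      (![a, b, c] l = l) → (![a', b', c'] l ≠ l) →
      ((a' ≠ 0 ∧ b' ≠ 1 ∧ c' ≠ 2) ∨ (![a', b', c'] a ≠ 0 ∧ ![a', b', c'] b ≠ 1 ∧ ![a', b', c'] c ≠ 2)) := by
    decide
  have e0 : ∀ (σ : Equiv.Perm (Fin 3)) (i : Fin 3), ![σ 0, σ 1, σ 2] i = σ i := by
    intro σ i; fin_cases i <;> rfl
  intro l h2 h3 h4
  rcases key _ _ _ _ _ _ l a1 a2 a3 b1 b2 b3 h2 (by rw [e0]; exact h3) (by rw [e0]; exact h4) with h5 | h5
  · left
    intro i; fin_cases i
    · exact h5.1
    · exact h5.2.1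
    · exact h5.2.2
  · right
    rw [e0, e0, e0] at h5
    intro i; fin_cases i
    · exact h5.1
    · exact h5.2.1
    · exact h5.2.2

section Fin

variable [Finite G]

theorem mem_OmS_iff (h : WM Om) {S : Subgroup G} (hS : IsPGroup 2 S) : K ∈ OmS Om S ↔ K ∈ Om ∧ K ≤ S :=
  ⟨fun h1 => ⟨h1.1, ROne.le_of_OmS (h.isPGroup h1.1) hS h1⟩, fun h1 => RTwo.mem_OmS_of_le h1.1 h1.2⟩

/-- **Frattini** -/
theorem frat (h : WM Om) (S : Sylow 2 G) (hK : Mem Om z K) (hKS : K ≤ S) (hg : cj g K = K) :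
    ∃ g', cj g' K = K ∧ g' * z = z * g' ∧ (∀ M, M ∈ Om → M ≤ (S : Subgroup G) → cj g' M ≤ (S : Subgroup G)) ∧
      ∃ k ∈ K, ∀ y ∈ K, g' * y * g'⁻¹ = k * (g * y * g⁻¹) * k⁻¹ := by
  have hn : normalizer (K : Set G) ≤ normalizer ((K ⊔ centralizer (K : Set G) : Subgroup G) : Set G) := by
    intro a ha
    rw [mem_normalizer_iff_cj] at ha ⊢
    have h1 : cj a (centralizer (K : Set G)) = centralizer (K : Set G) := by
      have key : ∀ a : G, cj a K = K → cj a (centralizer (K : Set G)) ≤ centralizer (K : Set G) := by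
        rintro a ha _ ⟨c, hc, rfl⟩
        rw [SetLike.mem_coe, mem_centralizer_iff] at hc
        rw [mem_centralizer_iff]
        intro k hk
        have h2 : a⁻¹ * k * a ∈ K := by
          have : k ∈ cj a K := by rw [ha]; exact hk
          exact mem_cj.1 this
        have h3 := hc _ h2
        show k * (a * c * a⁻¹) = a * c * a⁻¹ * k
        calc k * (a * c * a⁻¹) = a * (a⁻¹ * k * a * c) * a⁻¹ := by group
          _ = a * (c * (a⁻¹ * k * a)) * a⁻¹ := by rw [h3]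
          _ = _ := by group
      refine le_antisymm (key a ha) ?_
      have ha' : cj a⁻¹ K = K := by
        conv_lhs => rw [← ha]
        exact cj_inv_cj a K
      have h2 := cj_mono a (key a⁻¹ ha')
      rwa [cj_cj_inv] at h2
    rw [cj_sup, ha, h1]
  have hD : DD Om (S : Subgroup G) ≤ K ⊔ centralizer (K : Set G) := by
    rw [DD_le_iff]
    intro M hM
    have hM' := (mem_OmS_iff h S.isPGroup').1 hM
    by_cases hne : M = K
    · rw [hne]; exact inf_le_left.trans le_sup_left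
    · refine inf_le_left.trans (le_sup_of_le_right ?_)
      intro m hm
      rw [mem_centralizer_iff]
      intro k hk
      exact (com h S.isPGroup' hM'.1 hK.1 hM'.2 hKS hne m hm k hk).symm
  obtain ⟨l, hl, hlg⟩ := frattini_DD h.hyp S hn hD (mem_normalizer_iff_cj.2 hg)
  have hKn : centralizer (K : Set G) ≤ normalizer (K : Set G) := by
    intro c hc
    rw [mem_centralizer_iff] at hc
    rw [mem_normalizer_iff]
    intro k
    constructor
    · intro hk
      rw [← hc k hk, mul_inv_cancel_right]; exact hk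
    · intro hk
      have h3 := hc _ hk
      have h4 : k = c⁻¹ * (c * k * c⁻¹) * c := by group
      rw [h4, mul_assoc, h3, ← mul_assoc, inv_mul_cancel, one_mul]; exact hk
  obtain ⟨k, hk, c, hc, rfl⟩ := LB.exists_mul_of_mem_sup hKn hl
  rw [mem_centralizer_iff] at hc
  have hcK : cj c K = K := mem_normalizer_iff_cj.1 (hKn (mem_centralizer_iff.2 hc))
  have hkK : cj k K = K := mem_normalizer_iff_cj.1 (le_normalizer hk)
  have hK' : cj (k * c * g) K = K := by rw [cj_mul, cj_mul, hg, hcK, hkK]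
  refine ⟨k * c * g, hK', hK.of_cj h hK', ?_, k, hk, ?_⟩
  · intro M hM hMS
    have h1 := cj_mem_OmS' h.hyp.conj hlg (K := M) (by
      rw [OmS_DD S.isPGroup']; exact (mem_OmS_iff h S.isPGroup').2 ⟨hM, hMS⟩)
    rw [OmS_DD S.isPGroup'] at h1
    exact ((mem_OmS_iff h S.isPGroup').1 h1).2
  · intro y hy
    have h1 : g * y * g⁻¹ ∈ K := by
      have := conj_mem_cj (g := g) hy
      rwa [hg] at this
    have h2 := hc _ h1
    calc k * c * g * y * (k * c * g)⁻¹ = k * (c * (g * y * g⁻¹) * c⁻¹) * k⁻¹ := by group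
      _ = k * (g * y * g⁻¹) * k⁻¹ := by rw [← h2, mul_inv_cancel_right]

/-- a subgroup `H ≤ N(K)` without a fixed axis contains a 3-element rotating `K` -/
theorem exists_rot_of (h : WM Om) (hK : Mem Om z K) (hH : ∀ g ∈ H, cj g K = K)
    (hm : ∀ y ∈ K, y * y = z → ∃ g ∈ H, g * y * g⁻¹ ≠ y ∧ g * y * g⁻¹ ≠ z * y) : ∃ k ∈ H, Rt z K k := by
  obtain ⟨x, qx⟩ := h.exists_q3 hK
  have hcz : ∀ g ∈ H, g * z = z * g := fun g hg => hK.of_cj h (hH g hg)
  have hex : ∀ g ∈ H, ∃ σ, Act z x x g σ := fun g hg => qx.exists_act qx (hH g hg) (hcz g hg)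
  have hmv : ∀ l, ∃ g ∈ H, ∃ σ, Act z x x g σ ∧ σ l ≠ l := by
    intro l
    obtain ⟨g, hg, h1, h2⟩ := hm (x l) (qx.mem l) (qx.sq l)
    obtain ⟨σ, hσ⟩ := hex g hg
    refine ⟨g, hg, σ, hσ, fun h3 => ?_⟩
    rcases hσ l with h4 | h4
    · rw [h3] at h4; exact h1 h4
    · rw [h3] at h4; exact h2 h4
  obtain ⟨g, hg, σ, hσ, hσn⟩ : ∃ g ∈ H, ∃ σ, Act z x x g σ ∧ ∀ l, σ l ≠ l := by
    obtain ⟨g₀, hg₀, σ₀, hσ₀, h0⟩ := hmv 0
    by_cases h1 : ∀ l, σ₀ l ≠ l
    · exact ⟨g₀, hg₀, σ₀, hσ₀, h1⟩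
    push Not at h1
    obtain ⟨l, hl⟩ := h1
    obtain ⟨g₁, hg₁, σ₁, hσ₁, h1⟩ := hmv l
    rcases perm_key σ₀ σ₁ l h0 hl h1 with h2 | h2
    · exact ⟨g₁, hg₁, σ₁, hσ₁, h2⟩
    · exact ⟨g₁ * g₀, mul_mem hg₁ hg₀, σ₁ * σ₀, hσ₀.comp qx.z2 hσ₁ (hcz g₁ hg₁), h2⟩
  have hpow : ∀ m : ℕ, Act z x x (g ^ m) (σ ^ m) := by
    intro m
    induction m with
    | zero => rw [pow_zero, pow_zero]; exact Act.one x z
    | succ m ih =>
      have h1 := ih.comp qx.z2 hσ (hcz g hg)
      rw [pow_succ' g, pow_succ' σ]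
      exact h1
  obtain ⟨e, m, hm3, hem⟩ := Nat.exists_eq_pow_mul_and_not_dvd (orderOf_pos g).ne' 3 (by norm_num)
  have hσm : ∀ i, (σ ^ m) i ≠ i := by
    have key : ∀ σ : Equiv.Perm (Fin 3), (∀ i, σ i ≠ i) → σ ^ 3 = 1 ∧ (∀ i, (σ ^ 2) i ≠ i) := by decide
    obtain ⟨k1, k2⟩ := key σ hσn
    have h1 : σ ^ m = σ ^ (m % 3) := by
      conv_lhs => rw [← Nat.mod_add_div m 3, pow_add, pow_mul, k1, one_pow, mul_one]
    have h2 : m % 3 = 1 ∨ m % 3 = 2 := by omega
    rw [h1]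
    rcases h2 with h2 | h2
    · rw [h2, pow_one]; exact hσn
    · rw [h2]; exact k2
  have hgm : g ^ m ∈ H := pow_mem hg m
  have hord : (g ^ m) ^ 3 ^ e = 1 := by
    rw [← pow_mul, mul_comm, ← hem, pow_orderOf_eq_one]
  refine ⟨g ^ m, hgm, hcz _ hgm, hH _ hgm, ?_, ?_⟩
  · rintro ⟨c, hc⟩
    obtain ⟨l, rfl⟩ := mem_zpowers_iff.1 hc
    refine ⟨e, Subtype.ext ?_⟩
    show ((g ^ m) ^ l) ^ 3 ^ e = 1
    rw [← zpow_natCast, ← zpow_mul, mul_comm l, zpow_mul, zpow_natCast, hord, one_zpow]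
  · intro y hy hyy
    obtain ⟨l, hl⟩ := qx.of_sq hy hyy
    have hne := hσm l
    have h1 := qx.conj_ne (i := l) (j := (σ ^ m) l) (fun h2 => hne h2.symm)
    have hzz := qx.z2
    have hz1 := qx.z1
    -- `x l` and `x (σ l)` do not commute
    have h2 : x l * x ((σ ^ m) l) ≠ x ((σ ^ m) l) * x l := by
      intro h3
      rw [h3, mul_inv_cancel_right] at h1
      exact hz1 (mul_eq_right.1 h1.symm)
    have hzc : ∀ a ∈ K, a * z = z * a := fun a ha => hK.comm_z h ha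
    have e1 : y = x l ∨ y = z * x l := hl
    have e2 : g ^ m * x l * (g ^ m)⁻¹ = x ((σ ^ m) l) ∨ g ^ m * x l * (g ^ m)⁻¹ = z * x ((σ ^ m) l) := hpow m l
    have e3 : g ^ m * y * (g ^ m)⁻¹ = x ((σ ^ m) l) ∨ g ^ m * y * (g ^ m)⁻¹ = z * x ((σ ^ m) l) := by
      rcases e1 with e1 | e1
      · rw [e1]; exact e2
      · have e4 : g ^ m * (z * x l) * (g ^ m)⁻¹ = z * (g ^ m * x l * (g ^ m)⁻¹) := by
          calc g ^ m * (z * x l) * (g ^ m)⁻¹ = (g ^ m * z) * x l * (g ^ m)⁻¹ := by group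
            _ = _ := by rw [hcz _ hgm]; group
        rw [e1, e4]
        rcases e2 with e2 | e2
        · right; rw [e2]
        · left; rw [e2, ← mul_assoc, hzz, one_mul]
    intro h3
    apply h2
    have hxl := qx.mem l
    have hxm := qx.mem ((σ ^ m) l)
    have hc1 : ∀ {a b : G}, a ∈ K → b ∈ K → (z * a) * b = b * (z * a) → a * b = b * a := by
      intro a b _ hb h4
      have h5 : z * (a * b) = z * (b * a) := by
        calc z * (a * b) = (z * a) * b := by group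
          _ = b * (z * a) := h4
          _ = (b * z) * a := by group
          _ = _ := by rw [hzc b hb]; group
      exact mul_left_cancel h5
    have hc2 : ∀ {a b : G}, a ∈ K → b ∈ K → a * (z * b) = (z * b) * a → a * b = b * a := fun ha hb h4 =>
      (hc1 hb ha h4.symm).symm
    have hzx : z * x ((σ ^ m) l) ∈ K := mul_mem (hK.zmem h) hxm
    rcases e1 with e1 | e1 <;> rcases e3 with e3 | e3 <;> rw [e3, e1] at h3
    · exact h3
    · exact hc2 hxl hxm h3
    · exact hc1 hxl hxm h3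
    · exact hc2 hxl hxm (hc1 hxl hzx h3)

/-- **rotations** : `K ≤ S` a member: a 3-element of `N(K)` rotating `K` and permuting the members in `S` -/
theorem WM.kap_S (h : WM Om) (c3 : C3E Om) (S : Sylow 2 G) (hK : Mem Om z K) (hKS : K ≤ S) :
    ∃ k, Rt z K k ∧ ∀ M, M ∈ Om → M ≤ (S : Subgroup G) → cj k M ≤ (S : Subgroup G) := by
  let H : Subgroup G := normalizer (K : Set G) ⊓ normalizer (DD Om (S : Subgroup G) : Set G)
  have hperm : ∀ g ∈ normalizer (DD Om (S : Subgroup G) : Set G), ∀ M, M ∈ Om → M ≤ (S : Subgroup G) →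
      cj g M ≤ (S : Subgroup G) := by
    intro g hg M hM hMS
    have h1 := cj_mem_OmS' h.hyp.conj hg (K := M) (by
      rw [OmS_DD S.isPGroup']; exact (mem_OmS_iff h S.isPGroup').2 ⟨hM, hMS⟩)
    rw [OmS_DD S.isPGroup'] at h1
    exact ((mem_OmS_iff h S.isPGroup').1 h1).2
  have hDD : ∀ g : G, (∀ M, M ∈ Om → M ≤ (S : Subgroup G) → cj g M ≤ (S : Subgroup G)) →
      g ∈ normalizer (DD Om (S : Subgroup G) : Set G) := by
    intro g hg
    have h1 : cj g (DD Om (S : Subgroup G)) ≤ DD Om (S : Subgroup G) := by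
      rw [Cit.cj_le_iff]
      rw [DD_le_iff]
      intro M hM
      have hM' := (mem_OmS_iff h S.isPGroup').1 hM
      rw [← Cit.cj_le_iff]
      have h2 := hg M hM'.1 hM'.2
      have h3 : cj g M ∈ OmS Om (S : Subgroup G) := (mem_OmS_iff h S.isPGroup').2 ⟨h.hyp.conj M hM'.1 g, h2⟩
      refine le_trans (cj_mono g inf_le_left) ?_
      refine le_trans (le_inf le_rfl h2) (inf_le_DD h3)
    rw [mem_normalizer_iff_cj]
    refine Subgroup.eq_of_le_of_card_ge h1 ?_
    rw [card_cj]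
  obtain ⟨k, hk, hr⟩ := exists_rot_of (H := H) h hK (fun g hg => mem_normalizer_iff_cj.1 hg.1) (by
    intro y hy hyy
    obtain ⟨g, hgz, hgK, h1, h2⟩ := c3 z K hK y hy hyy
    obtain ⟨g', hg'K, -, hg'S, k, hk, hact⟩ := frat h S hK hKS hgK
    refine ⟨g', ⟨mem_normalizer_iff_cj.2 hg'K, hDD g' hg'S⟩, ?_⟩
    have hgy : g * y * g⁻¹ ∈ K := by
      have := conj_mem_cj (g := g) hy
      rwa [hgK] at this
    rw [hact y hy]
    have hzz := hK.inZ.z2 h
    rcases hK.comm_or h hgy hk with h3 | h3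
    · rw [h3]; exact ⟨h1, h2⟩
    · rw [h3]
      refine ⟨fun h4 => h2 ?_, fun h4 => h1 (mul_left_cancel h4)⟩
      calc g * y * g⁻¹ = z * (z * (g * y * g⁻¹)) := by rw [← mul_assoc, hzz, one_mul]
        _ = z * y := by rw [h4])
  exact ⟨k, hr, hperm k hk.2⟩

/-- **(K)** -/
theorem TW.kap (W : TW Om) (p : PR Om z u) (hK : Mem Om z K) : ∃ k, Rt z K k ∧ k * u = u * k := by
  obtain ⟨S, hz, hu⟩ := exists_sylow_of_cp W.w p.hz p.hu p.cp
  have hKS := CS.le hz W.w hK
  obtain ⟨k, hr, hS⟩ := WM.kap_S W.w W.c3 S hK hKS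
  refine ⟨k, hr, ?_⟩
  obtain ⟨N, hN, hNS⟩ := hu
  have h1 : k * u * k⁻¹ ∈ CS Om (S : Subgroup G) := ⟨cj k N, Mem.cj hN W.w k, hS N hN.1 hNS⟩
  rw [W.CS_eq p S hz ⟨N, hN, hNS⟩] at h1
  rcases h1 with h1 | h1
  · exfalso
    apply p.cp.1
    have h2 : k * u * k⁻¹ = k * z * k⁻¹ := by rw [h1, hr.cz, mul_inv_cancel_right]
    exact (mul_left_cancel (mul_right_cancel h2)).symm
  · exact mul_inv_eq_iff_eq_mul.1 h1

theorem Rt.cK' (hr : Rt z K k) (h : WM Om) (hK : Mem Om z K) (hL : Mem Om z L) (hne : K ≠ L) : cj k L = L := by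
  rcases cj_cases h hK hL hne hr.cz with h1 | h1
  · exact h1.2
  · exact absurd (hr.cK.symm.trans h1.1) hne

/-- a rotation fixes no involution of `R_z / ⟨z⟩` -/
theorem Rt.no_fix (hr : Rt z K k) (h : WM Om) (hK : Mem Om z K) (hw : w ∈ RZ Om z) (hww : w * w = 1) (hw1 : w ≠ 1)
    (hwz : w ≠ z) : k * w * k⁻¹ ≠ w ∧ k * w * k⁻¹ ≠ z * w := by
  obtain ⟨L, hL, hne, -⟩ := hK.other h
  obtain ⟨a, ha, b, hb, rfl⟩ := (mem_RZ hK hL h hne).1 hw
  have hab := hK.comm hL h hne ha hb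
  have hzz := hK.inZ.z2 h
  have h1 : (a * a) * (b * b) = 1 := by
    rw [← hww]
    calc (a * a) * (b * b) = a * (a * b) * b := by group
      _ = a * (b * a) * b := by rw [hab]
      _ = _ := by group
  have haa : a * a = z := by
    rcases hK.sq_cases h ha with h2 | h2 | h2
    · exfalso
      rw [h2, one_mul, one_mul] at h1
      rcases hL.sq_cases h hb with h3 | h3 | h3
      · exact hw1 (by rw [h2, h3, one_mul])
      · exact hwz (by rw [h2, h3, one_mul])
      · rw [h3] at h1; exact hK.inZ.z1 h h1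
    · exfalso
      rw [h2, hzz, one_mul] at h1
      rcases hL.sq_cases h hb with h3 | h3 | h3
      · exact hwz (by rw [h2, h3, mul_one])
      · exact hw1 (by rw [h2, h3, hzz])
      · rw [h3] at h1; exact hK.inZ.z1 h h1
    · exact h2
  have ha' : k * a * k⁻¹ ∈ K := by
    have := conj_mem_cj (g := k) ha
    rwa [hr.cK] at this
  have hb' : k * b * k⁻¹ ∈ L := by
    have := conj_mem_cj (g := k) hb
    rwa [hr.cK' h hK hL hne] at this
  have hrot := hr.rot a ha haa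
  have hsplit : k * (a * b) * k⁻¹ = (k * a * k⁻¹) * (k * b * k⁻¹) := by group
  have haz := hK.comm_z h ha
  have key : ∀ c, (c = 1 ∨ c = z) → k * (a * b) * k⁻¹ ≠ c * (a * b) := by
    intro c hc h2
    rw [hsplit] at h2
    have h3 : a⁻¹ * (c⁻¹ * (k * a * k⁻¹)) = b * (k * b * k⁻¹)⁻¹ := by
      have h4 : c⁻¹ * ((k * a * k⁻¹) * (k * b * k⁻¹)) = a * b := by rw [h2]; group
      calc a⁻¹ * (c⁻¹ * (k * a * k⁻¹)) = a⁻¹ * (c⁻¹ * ((k * a * k⁻¹) * (k * b * k⁻¹))) * (k * b * k⁻¹)⁻¹ := by group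
        _ = a⁻¹ * (a * b) * (k * b * k⁻¹)⁻¹ := by rw [h4]
        _ = _ := by group
    have hcK : c ∈ K := by
      rcases hc with rfl | rfl
      · exact one_mem K
      · exact hK.zmem h
    have h4 : a⁻¹ * (c⁻¹ * (k * a * k⁻¹)) ∈ K := mul_mem (inv_mem ha) (mul_mem (inv_mem hcK) ha')
    have h5 : a⁻¹ * (c⁻¹ * (k * a * k⁻¹)) ∈ L := by rw [h3]; exact mul_mem hb (inv_mem hb')
    obtain ⟨d, hd⟩ : ∃ d, d = a⁻¹ * (c⁻¹ * (k * a * k⁻¹)) := ⟨_, rfl⟩
    rw [← hd] at h4 h5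
    have h6 := hK.inf hL h hne h4 h5
    have h7 : k * a * k⁻¹ = c * (a * d) := by rw [hd]; group
    apply hrot
    rw [h7]
    have hcom : ∀ e, (e = 1 ∨ e = z) → a * e = e * a := by
      rintro e (rfl | rfl)
      · group
      · exact haz
    have c1 := hcom c hc
    have c2 := hcom d h6
    calc a * (c * (a * d)) = (a * c) * (a * d) := by group
      _ = c * a * (d * a) := by rw [c1, c2]
      _ = c * (a * d) * a := by group
  refine ⟨fun h2 => key 1 (Or.inl rfl) (by rw [h2, one_mul]), fun h2 => key z (Or.inr rfl) h2⟩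

/-- **(K')** -/
theorem Kp (h : WM Om) (hK : Mem Om z K) (hr : Rt z K k) (hB : B ≤ RZ Om z) (hB' : B' ≤ RZ Om z)
    (sB : ∀ b ∈ B, b * b = 1) (cB : Nat.card B = 8) (cB' : Nat.card B' = 8) (zB : z ∈ B) (zB' : z ∈ B')
    (iB : ∀ b ∈ B, k * b * k⁻¹ ∈ B) (iB' : ∀ b ∈ B', k * b * k⁻¹ ∈ B') (hw : w ∈ B) (hw' : w ∈ B') (hw1 : w ≠ 1)
    (hwz : w ≠ z) : B = B' := by
  classical
  obtain ⟨h1, h2⟩ := hr.no_fix h hK (hB hw) (sB w hw) hw1 hwz
  have hzz := hK.inZ.z2 h
  have hz1 := hK.inZ.z1 h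
  obtain ⟨w', hw'e⟩ : ∃ w', w' = k * w * k⁻¹ := ⟨_, rfl⟩
  rw [← hw'e] at h1 h2
  have h3 : w' ≠ 1 := by
    rw [hw'e]
    intro h4
    apply hw1
    have : w = k⁻¹ * (k * w * k⁻¹) * k := by group
    rw [this, h4]; group
  have h4 : w' ≠ z := by
    rw [hw'e]
    intro h4
    apply hwz
    have : w = k⁻¹ * (k * w * k⁻¹) * k := by group
    rw [this, h4, mul_assoc, ← hr.cz]; group
  have hmem : ∀ C : Subgroup G, w ∈ C → z ∈ C → (∀ b ∈ C, k * b * k⁻¹ ∈ C) →
      ((({1, z, w, z * w, w'} : Finset G) : Set G)) ⊆ (C : Set G) := by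
    intro C hwC hzC hkC c hc
    rw [Finset.mem_coe, Finset.mem_insert, Finset.mem_insert, Finset.mem_insert, Finset.mem_insert,
      Finset.mem_singleton] at hc
    rcases hc with rfl | rfl | rfl | rfl | rfl
    · exact one_mem C
    · exact hzC
    · exact hwC
    · exact mul_mem hzC hwC
    · rw [hw'e]; exact hkC _ hwC
  have hcard : ({1, z, w, z * w, w'} : Finset G).card = 5 := by
    rw [Finset.card_insert_of_notMem, Finset.card_insert_of_notMem, Finset.card_insert_of_notMem,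
      Finset.card_insert_of_notMem, Finset.card_singleton]
    · rw [Finset.mem_singleton]; exact fun h5 => h2 h5.symm
    · rw [Finset.mem_insert, Finset.mem_singleton]
      rintro (h5 | h5)
      · exact hz1 (mul_eq_right.1 h5.symm)
      · exact h1 h5.symm
    · rw [Finset.mem_insert, Finset.mem_insert, Finset.mem_singleton]
      rintro (h5 | h5 | h5)
      · exact hwz h5.symm
      · exact hw1 (mul_eq_left.1 h5.symm)
      · exact h4 h5.symm
    · rw [Finset.mem_insert, Finset.mem_insert, Finset.mem_insert, Finset.mem_singleton]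
      rintro (h5 | h5 | h5 | h5)
      · exact hz1 h5.symm
      · exact hw1 h5.symm
      · apply hwz
        have h6 := inv_eq_of_mul_eq_one_right h5.symm
        rw [← h6]; exact inv_eq_of_mul_eq_one_right hzz
      · exact h3 h5.symm
  have hsub : ((({1, z, w, z * w, w'} : Finset G) : Set G)) ⊆ ((B ⊓ B' : Subgroup G) : Set G) := fun c hc =>
    ⟨hmem B hw zB iB hc, hmem B' hw' zB' iB' hc⟩
  have h5 : 5 ≤ Nat.card ↥(B ⊓ B') := by
    have h6 := Set.ncard_le_ncard hsub (Set.toFinite _)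
    rw [Set.ncard_coe_finset, hcard] at h6
    exact h6
  have h6 : Nat.card ↥(B ⊓ B') ∣ 8 := by
    rw [← cB]; exact Subgroup.card_dvd_of_le inf_le_left
  have h7 : Nat.card ↥(B ⊓ B') = 8 := by
    have h8 := Nat.le_of_dvd (by norm_num) h6
    interval_cases hn : Nat.card ↥(B ⊓ B')
    all_goals first | rfl | (exfalso; revert h6; decide)
  have h8 : B ⊓ B' = B := Subgroup.eq_of_le_of_card_ge inf_le_left (by rw [h7, cB])
  have h9 : B ⊓ B' = B' := Subgroup.eq_of_le_of_card_ge inf_le_right (by rw [h7, cB'])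
  exact h8.symm.trans h9

/-- `|C_B'(x)| ≥ 4` -/
theorem exists_fix (hB' : ∀ b ∈ B', b * b = 1) (cB' : Nat.card B' = 8) (zB' : z ∈ B')
    (hxx : x * x = 1) (iB' : ∀ b ∈ B', x * b * x⁻¹ ∈ B') : ∃ w ∈ B', x * w = w * x ∧ w ≠ 1 ∧ w ≠ z := by
  classical
  by_contra hcon
  push Not at hcon
  have hcomm : ∀ a ∈ B', ∀ b ∈ B', a * b = b * a := by
    intro a ha b hb
    have h5 := hB' _ (mul_mem ha hb)
    have h6 : (a * b)⁻¹ = a * b := inv_eq_of_mul_eq_one_right h5
    rw [_root_.mul_inv_rev, inv_eq_of_mul_eq_one_right (hB' a ha), inv_eq_of_mul_eq_one_right (hB' b hb)] at h6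
    exact h6.symm
  have hx' : x⁻¹ = x := inv_eq_of_mul_eq_one_right hxx
  have hzz := hB' z zB'
  -- `x v x⁻¹ = v z` for all `v ∉ ⟨z⟩`
  have key : ∀ v ∈ B', v ≠ 1 → v ≠ z → x * v * x⁻¹ = v * z := by
    intro v hv hv1 hvz
    have h1 := iB' v hv
    obtain ⟨c, hc⟩ : ∃ c, c = v * (x * v * x⁻¹) := ⟨_, rfl⟩
    have hcB : c ∈ B' := by rw [hc]; exact mul_mem hv h1
    have hcx : x * c = c * x := by
      have h2 : x * c * x⁻¹ = c := by
        rw [hc]
        calc x * (v * (x * v * x⁻¹)) * x⁻¹ = (x * v * x⁻¹) * ((x * x) * v * (x * x)⁻¹) := by group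
          _ = (x * v * x⁻¹) * v := by rw [hxx]; group
          _ = v * (x * v * x⁻¹) := hcomm _ h1 _ hv
      exact mul_inv_eq_iff_eq_mul.1 h2
    have h3 : c = 1 ∨ c = z := by
      by_contra h4
      push Not at h4
      exact h4.2 (hcon c hcB hcx h4.1)
    have h4 : x * v * x⁻¹ = v * c := by
      rw [hc, ← mul_assoc, hB' v hv, one_mul]
    rcases h3 with h3 | h3
    · exfalso
      rw [h3, mul_one] at h4
      exact hvz (hcon v hv (mul_inv_eq_iff_eq_mul.1 h4) hv1)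
    · rw [h4, h3]
  -- two elements outside
  have hbig : ∀ s : Finset G, s.card ≤ 4 → ∃ v ∈ B', v ∉ s := by
    intro s hs
    by_contra h1
    push Not at h1
    have h2 : (B' : Set G) ⊆ (s : Set G) := fun v hv => h1 v hv
    have h3 := Set.ncard_le_ncard h2 (Set.toFinite _)
    rw [Set.ncard_coe_finset] at h3
    have h4 : (B' : Set G).ncard = 8 := by rw [← cB']; rfl
    omega
  obtain ⟨v, hv, hv'⟩ := hbig {1, z} (by
    refine (Finset.card_insert_le _ _).trans ?_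
    rw [Finset.card_singleton]; omega)
  obtain ⟨v2, hv2, hv2'⟩ := hbig {1, z, v, z * v} (by
    refine (Finset.card_insert_le _ _).trans ?_
    have h1 := Finset.card_insert_le z ({v, z * v} : Finset G)
    have h2 := Finset.card_insert_le v ({z * v} : Finset G)
    rw [Finset.card_singleton] at h2
    omega)
  rw [Finset.mem_insert, Finset.mem_singleton, not_or] at hv'
  rw [Finset.mem_insert, Finset.mem_insert, Finset.mem_insert, Finset.mem_singleton] at hv2'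
  push Not at hv2'
  obtain ⟨n1, n2, n3, n4⟩ := hv2'
  have k1 := key v hv hv'.1 hv'.2
  have k2 := key v2 hv2 n1 n2
  have hvv := hB' v hv
  have h5 : v * v2 ≠ 1 := fun h6 => n3 (by rw [← inv_eq_of_mul_eq_one_right h6]; exact inv_eq_of_mul_eq_one_right hvv)
  have h6 : v * v2 ≠ z := by
    intro h7
    apply n4
    rw [← h7]
    calc v2 = (v * v) * v2 := by rw [hvv, one_mul]
      _ = v * (v * v2) := by group
      _ = v * (v2 * v) := by rw [hcomm v hv v2 hv2]
      _ = v * v2 * v := by group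
  have h7 : x * (v * v2) = (v * v2) * x := by
    have h8 : x * (v * v2) * x⁻¹ = v * v2 := by
      calc x * (v * v2) * x⁻¹ = (x * v * x⁻¹) * (x * v2 * x⁻¹) := by group
        _ = v * (z * v2) * z := by rw [k1, k2]; group
        _ = v * (v2 * z) * z := by rw [hcomm z zB' v2 hv2]
        _ = v * v2 * (z * z) := by group
        _ = v * v2 := by rw [hzz, mul_one]
    exact mul_inv_eq_iff_eq_mul.1 h8
  exact h6 (hcon _ (mul_mem hv hv2) h7 h5)

end Fin

end Cfsg.Agent.Cit.Nil.RTwoM.Two
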