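import Cfsg.Agent.Cit.Nil.RTwoM.NilZ

/-!
# S1309, (6b), (C3), `r = 2`: charts in vector form

* `dv i` : the characteristic vector of `i`; `Eps Om D e ε` : `ε : F₂ⁿ → ⟨D⟩` extends the chart `e`
  (`e i j = ε (dv i + dv j)`), every element of `⟨D⟩` is `ε v`, `v` even; `ChtG.exists_eps`;
* `Eps.const` : `v` even, `ε v` no swap anywhere: `v = 0` or `v = 1`;
* `ChtG.exists_two` : `y₁`, `y₂` in a member `K` over `b = {i,j,k,l}`, acting as `(ij)(kl)`, `(ik)(jl)`;
* `ChtG.pair_comm` : `e p q`, `p, q ∉ b`, centralises a member over `b`.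
-/

set_option autoImplicit false
set_option linter.style.haveILetI false
set_option linter.unusedSectionVars false

namespace Cfsg.Agent.Cit.Nil.RTwoM.Two

open Subgroup Cfsg Cfsg.Agent.Cit

open RTwo (Q3)
open RG (WR CP Ov InO Tr)
open RI (CS)
open Blk (dl dl_self dl_ne dl_comm Dst)

variable {G : Type*} [Group G] {Om : Set (Subgroup G)} {K L M : Subgroup G} {D : Set G}
  {a b c d g g' m q r s t u w x y z : G}

/-- the characteristic vector of a point -/
def dv {n : ℕ} (i : Fin n) : Fin n → ZMod 2 := fun p => dl i p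

theorem dv_apply {n : ℕ} (i p : Fin n) : dv i p = dl i p := rfl

theorem dv_self {n : ℕ} (i : Fin n) : dv i i = 1 := dl_self i

theorem dv_ne {n : ℕ} {i p : Fin n} (h : i ≠ p) : dv i p = 0 := dl_ne h

theorem vec_two {n : ℕ} (v : Fin n → ZMod 2) : v + v = 0 := by
  funext i
  show v i + v i = 0
  generalize v i = a
  revert a; decide

theorem sum_dv {n : ℕ} (i : Fin n) : ∑ p, dv i p = 1 := by
  rw [Finset.sum_eq_single i]
  · exact dl_self i
  · intro b _ hb; exact dl_ne hb.symm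
  · intro h; exact absurd (Finset.mem_univ i) h

/-- `ε : F₂ⁿ → ⟨D⟩` extends the chart `e` -/
structure Eps (Om : Set (Subgroup G)) (D : Set G) {n : ℕ} (e : Fin n → Fin n → G) (ε : (Fin n → ZMod 2) → G) :
    Prop where
  add : ∀ v w, ε (v + w) = ε v * ε w
  cl : ∀ v, ε v ∈ closure D
  pt : ∀ i j, e i j = ε (dv i + dv j)
  surj : ∀ x ∈ closure D, ∃ v, ∑ i, v i = 0 ∧ x = ε v
  swp : ∀ i j k l, Dst i j k l → ∀ v, ∑ i, v i = 0 → (Swp Om (e i j * e k l) (ε v) ↔ v i + v j + v k + v l = 1)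

section Fin

variable [Finite G]

theorem _root_.Cfsg.Agent.Cit.Nil.RTwoM.ChtG.self {n : ℕ} {e : Fin n → Fin n → G} (c : ChtG Om D e) (i : Fin n) :
    e i i = 1 := by
  have h1 := c.add i i i
  exact mul_eq_left.1 h1

/-- the vector form of a chart -/
theorem _root_.Cfsg.Agent.Cit.Nil.RTwoM.ChtG.exists_eps.{v} {G : Type v} [Group G] [Finite G]
    {Om : Set (Subgroup G)} {D : Set G} {n : ℕ} (hn : 0 < n) {e : Fin n → Fin n → G}
    (c : ChtG Om D e) (nil : NilS Om D) (h : WM Om) (gen : ∀ v ∈ D, InG e v) :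
    ∃ ε, Eps Om D e ε := by
  obtain ⟨N, _, _, ι, E⟩ := nil.exists_emb
  have two := E.two nil h
  letI : Module (ZMod 2) N := AddCommGroup.zmodModule (n := 2) (fun x => by rw [two_nsmul, two])
  obtain ⟨o⟩ : Nonempty (Fin n) := ⟨⟨0, hn⟩⟩
  have hf : ∀ i, ∃ x : N, ι x = e o i := fun i => E.ex (c.cl o i)
  choose f hf using hf
  have hoo : ∀ i j, e o i * e o j = e i j := by
    intro i j
    have h1 := c.add i o j
    have h2 := c.add i o i
    rw [c.self] at h2
    have h3 := nil.cl_sq h (c.cl o i)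
    have h4 : e i o = e o i := by
      rw [eq_inv_of_mul_eq_one_left h2]
      exact inv_eq_of_mul_eq_one_right h3
    rw [← h4, h1]
  obtain ⟨F, hF⟩ : ∃ F : (Fin n → ZMod 2) →ₗ[ZMod 2] N, ∀ v, F v = ∑ i, v i • f i :=
    ⟨Fintype.linearCombination (ZMod 2) f, fun v => Fintype.linearCombination_apply (ZMod 2) f v⟩
  have hdv : ∀ i, F (dv i) = f i := by
    intro i
    rw [hF, Finset.sum_eq_single i]
    · rw [dv_self, one_smul]
    · intro b _ hb
      rw [dv_ne hb.symm, zero_smul]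
    · intro h; exact absurd (Finset.mem_univ i) h
  have hadd : ∀ v w, ι (F (v + w)) = ι (F v) * ι (F w) := fun v w => by rw [map_add, E.add]
  have hpt : ∀ i j, e i j = ι (F (dv i + dv j)) := fun i j => by
    rw [hadd, hdv, hdv, hf, hf, hoo]
  refine ⟨fun v => ι (F v), hadd, fun v => E.cl _, hpt, ?_, ?_⟩
  · intro x hx
    refine closure_induction (p := fun x _ => ∃ v : Fin n → ZMod 2, ∑ i, v i = 0 ∧ x = ι (F v)) ?_ ?_ ?_ ?_ hx
    · intro b hb
      obtain ⟨i, j, k, l, hd, rfl⟩ := gen b hb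
      refine ⟨dv i + dv j + (dv k + dv l), ?_, ?_⟩
      · simp only [Pi.add_apply, Finset.sum_add_distrib, sum_dv]; decide
      · rw [hadd, ← hpt, ← hpt]
    · exact ⟨0, by simp, by rw [map_zero, E.zero]⟩
    · rintro a b - - ⟨v, hv, rfl⟩ ⟨w, hw, rfl⟩
      exact ⟨v + w, by simp only [Pi.add_apply, Finset.sum_add_distrib, hv, hw, add_zero], by rw [hadd]⟩
    · rintro a ha ⟨v, hv, rfl⟩
      exact ⟨v, hv, inv_eq_of_mul_eq_one_right (nil.cl_sq h ha)⟩
  · intro i j k l hd v hv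
    obtain ⟨b, hb⟩ : ∃ b, b = e i j * e k l := ⟨_, rfl⟩
    have hbD : b ∈ D := by rw [hb]; exact c.mem i j k l hd
    have hcm : ∀ x ∈ closure D, x * b = b * x := fun x hx => nil.comm_cl hbD hx
    obtain ⟨φ, hφ⟩ : ∃ φ : (Fin n → ZMod 2) →+ ZMod 2, ∀ v, φ v = sI Om b (ι (F v)) :=
      ⟨AddMonoidHom.mk' (fun v => sI Om b (ι (F v))) (fun v w => by
        rw [hadd, sI_mul h (nil.inZ b hbD) (hcm _ (E.cl _)) (hcm _ (E.cl _))]), fun v => rfl⟩
    obtain ⟨m, hm⟩ : ∃ m : Fin n → ZMod 2, ∀ p, m p = dl i p + dl j p + dl k p + dl l p := ⟨_, fun _ => rfl⟩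
    have hpq : ∀ p q, φ (dv p) + φ (dv q) = m p + m q := by
      intro p q
      rw [← map_add, hφ, ← hpt, hm, hm]
      have h1 := c.swp i j k l hd p q
      rw [← hb] at h1
      by_cases h2 : Swp Om b (e p q)
      · rw [sI_eq_one.2 h2, h1.1 h2]
      · rw [sI_eq_zero.2 h2]
        rcases Blk.z2 ((dl i p + dl j p + dl k p + dl l p) + (dl i q + dl j q + dl k q + dl l q)) with h3 | h3
        · exact h3.symm
        · exact absurd (h1.2 h3) h2
    have hexp : φ v = ∑ p, v p * φ (dv p) := by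
      have h1 : v = ∑ p, (fun q => v p * dv p q) := by
        funext q
        rw [Finset.sum_apply, Finset.sum_eq_single q]
        · rw [dv_self, mul_one]
        · intro b _ hb
          rw [dv_ne hb, mul_zero]
        · intro h; exact absurd (Finset.mem_univ q) h
      conv_lhs => rw [h1]
      rw [map_sum]
      refine Finset.sum_congr rfl fun p _ => ?_
      rcases Blk.z2 (v p) with h2 | h2
      · rw [h2, zero_mul]
        have h3 : (fun q => (0 : ZMod 2) * dv p q) = 0 := by funext q; exact zero_mul _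
        rw [h3, map_zero]
      · rw [h2, one_mul]
        have h3 : (fun q => (1 : ZMod 2) * dv p q) = dv p := by funext q; exact one_mul _
        rw [h3]
    have hexp2 : φ v = v i + v j + v k + v l := by
      have h1 : ∀ p, v p * φ (dv p) = v p * (φ (dv o) + m o) + v p * m p := by
        intro p
        have h2 := hpq p o
        rw [← mul_add]
        congr 1
        have h3 : φ (dv p) = m p + m o + φ (dv o) := by
          rw [← h2, add_assoc]
          have h4 : φ (dv o) + φ (dv o) = 0 := by generalize φ (dv o) = a; revert a; decide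
          rw [h4, add_zero]
        rw [h3]; ring
      rw [hexp, Finset.sum_congr rfl fun p _ => h1 p, Finset.sum_add_distrib, ← Finset.sum_mul, hv, zero_mul, zero_add]
      have h2 : ∀ i : Fin n, ∑ p, v p * dl i p = v i := by
        intro i
        rw [Finset.sum_eq_single i]
        · rw [dl_self, mul_one]
        · intro b _ hb
          rw [dl_ne hb.symm, mul_zero]
        · intro h; exact absurd (Finset.mem_univ i) h
      simp only [hm, mul_add, Finset.sum_add_distrib, h2]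
    rw [← hb, ← sI_eq_one, ← hφ, hexp2]

namespace Eps

variable {n : ℕ} {e : Fin n → Fin n → G} {ε : (Fin n → ZMod 2) → G} {v w : Fin n → ZMod 2} {i j k l : Fin n}

theorem zero (E : Eps Om D e ε) : ε 0 = 1 := by
  have h1 := E.add 0 0
  rw [add_zero] at h1
  exact left_eq_mul.1 h1

theorem sq (E : Eps Om D e ε) (v : Fin n → ZMod 2) : ε v * ε v = 1 := by
  rw [← E.add, vec_two, E.zero]

theorem bl (E : Eps Om D e ε) (i j k l : Fin n) : e i j * e k l = ε (dv i + dv j + dv k + dv l) := by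
  rw [E.pt, E.pt, ← E.add, ← add_assoc]

/-- an even vector orthogonal to all 4-sets is constant -/
theorem _root_.Cfsg.Agent.Cit.Nil.RTwoM.Two.vec_const {n : ℕ} (hn : 5 ≤ n) (v : Fin n → ZMod 2)
    (h : ∀ i j k l : Fin n, Dst i j k l → v i + v j + v k + v l = 0) : v = 0 ∨ v = 1 := by
  have key : ∀ i i' : Fin n, i ≠ i' → v i = v i' := by
    intro i i' hne
    have h1 : 3 ≤ (Finset.univ \ {i, i'} : Finset (Fin n)).card := by
      have h2 := Finset.le_card_sdiff ({i, i'} : Finset (Fin n)) Finset.univ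
      rw [Finset.card_univ, Fintype.card_fin, Finset.card_pair hne] at h2
      omega
    obtain ⟨T, hT, hT3⟩ := Finset.exists_subset_card_eq h1
    obtain ⟨j, k, l, jk, jl, kl, rfl⟩ := Finset.card_eq_three.1 hT3
    have h2 : ∀ p ∈ ({j, k, l} : Finset (Fin n)), p ≠ i ∧ p ≠ i' := by
      intro p hp
      have h3 := hT hp
      rw [Finset.mem_sdiff, Finset.mem_insert, Finset.mem_singleton] at h3
      push Not at h3
      exact h3.2
    have hj := h2 j (by simp)
    have hk := h2 k (by simp)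
    have hl := h2 l (by simp)
    have e1 := h i j k l ⟨hj.1.symm, hk.1.symm, hl.1.symm, jk, jl, kl⟩
    have e2 := h i' j k l ⟨hj.2.symm, hk.2.symm, hl.2.symm, jk, jl, kl⟩
    rw [← e2] at e1
    exact add_right_cancel (add_right_cancel (add_right_cancel e1))
  have h0 : 0 < n := by omega
  rcases Blk.z2 (v ⟨0, h0⟩) with h1 | h1
  · left
    funext i
    by_cases hi : i = ⟨0, h0⟩
    · rw [hi, h1]; rfl
    · rw [key i _ hi, h1]; rfl
  · right
    funext i
    by_cases hi : i = ⟨0, h0⟩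
    · rw [hi, h1]; rfl
    · rw [key i _ hi, h1]; rfl

theorem const (E : Eps Om D e ε) (hn : 5 ≤ n) (hv : ∑ i, v i = 0)
    (hs : ∀ i j k l, Dst i j k l → ¬ Swp Om (e i j * e k l) (ε v)) : v = 0 ∨ v = 1 := by
  refine vec_const hn v fun i j k l hd => ?_
  rcases Blk.z2 (v i + v j + v k + v l) with h1 | h1
  · exact h1
  · exact absurd ((E.swp i j k l hd v hv).2 h1) (hs i j k l hd)

theorem not_swp_one (_ : WM Om) (hz : InZ Om z) : ¬ Swp Om z 1 := by
  intro h1
  obtain ⟨K, hK⟩ := hz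
  exact h1.2 K hK (cj_one K)

theorem ker (E : Eps Om D e ε) (c : ChtG Om D e) (nil : NilS Om D) (h : WM Om) (hn : 5 ≤ n) (hv : ∑ i, v i = 0)
    (h1 : ε v = 1) : v = 0 ∨ v = 1 := by
  refine E.const hn hv fun i j k l hd => ?_
  rw [h1]
  exact not_swp_one h (nil.inZ _ (c.mem i j k l hd))

end Eps

/-! ### Elements of a member in a chart -/

/-- `y₁`, `y₂` in one member over `b = {i,j,k,l}` acting as `(ij)(kl)` and `(ik)(jl)` -/
theorem _root_.Cfsg.Agent.Cit.Nil.RTwoM.ChtG.exists_two {n : ℕ} (hn : 5 ≤ n) {e : Fin n → Fin n → G}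
    (c : ChtG Om D e) (nil : NilS Om D) (h : WM Om) {i j k l : Fin n} (hd : Dst i j k l) :
    ∃ K, Mem Om (e i j * e k l) K ∧ ∃ y₁ ∈ K, ∃ y₂ ∈ K, y₁ * y₁ = e i j * e k l ∧ y₂ * y₂ = e i j * e k l ∧
      y₁ * y₂ ≠ y₂ * y₁ ∧
      (∀ p q, y₁ * e p q * y₁⁻¹ = e (Equiv.swap i j (Equiv.swap k l p)) (Equiv.swap i j (Equiv.swap k l q))) ∧
      (∀ p q, y₂ * e p q * y₂⁻¹ = e (Equiv.swap i k (Equiv.swap j l p)) (Equiv.swap i k (Equiv.swap j l q))) := by
  have hd' : Dst i k j l := ⟨hd.ik, hd.ij, hd.il, hd.jk.symm, hd.kl, hd.jl⟩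
  obtain ⟨K, hK, y₁, hy₁, hyy₁, a₁⟩ := c.act i j k l hd
  obtain ⟨K', hK', y', hy', hyy', a'⟩ := c.act i k j l hd'
  have hcm : ∀ p q p' q', e p q * e p' q' = e p' q' * e p q := fun p q p' q' => nil.cl_comm (c.cl p q) (c.cl p' q')
  have hbb : e i k * e j l = e i j * e k l := by
    have h1 := c.add i j k
    have h2 := c.add j k l
    calc e i k * e j l = (e i j * e j k) * e j l := by rw [h1]
      _ = e i j * (e j k * (e j k * e k l)) := by rw [h2]; group
      _ = e i j * e k l := by rw [← mul_assoc (e j k), nil.cl_sq h (c.cl j k), one_mul]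
  rw [hbb] at hK' hyy'
  have hbD := c.mem i j k l hd
  have hbZ := nil.inZ _ hbD
  -- a swap
  obtain ⟨p, hp⟩ : ∃ p : Fin n, p ≠ i ∧ p ≠ j ∧ p ≠ k ∧ p ≠ l := by
    by_contra hcon
    push Not at hcon
    have h1 : (Finset.univ : Finset (Fin n)) ⊆ {i, j, k, l} := by
      intro p _
      simp only [Finset.mem_insert, Finset.mem_singleton]
      by_contra h2
      push Not at h2
      exact h2.2.2.2 (hcon p h2.1 h2.2.1 h2.2.2.1)
    have h2 := Finset.card_le_card h1
    rw [Finset.card_univ, Fintype.card_fin] at h2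
    have h3 : ({i, j, k, l} : Finset (Fin n)).card ≤ 4 := Finset.card_le_four
    omega
  have hsw : Swp Om (e i j * e k l) (e i p) := by
    rw [c.swp i j k l hd]
    rw [dl_self, dl_ne hd.ij.symm, dl_ne hd.ik.symm, dl_ne hd.il.symm, dl_ne hp.1.symm, dl_ne hp.2.1.symm,
      dl_ne hp.2.2.1.symm, dl_ne hp.2.2.2.symm]
    decide
  -- `y₂` in `K`
  obtain ⟨y₂, hy₂, hyy₂, a₂⟩ : ∃ y₂ ∈ K, y₂ * y₂ = e i j * e k l ∧
      (∀ p q, y₂ * e p q * y₂⁻¹ = e (Equiv.swap i k (Equiv.swap j l p)) (Equiv.swap i k (Equiv.swap j l q))) := by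
    by_cases hKK : K' = K
    · rw [hKK] at hy'
      exact ⟨y', hy', hyy', a'⟩
    · refine ⟨e i p * y' * (e i p)⁻¹, ?_, ?_, ?_⟩
      · have h1 : cj (e i p) K' = K := by
          have h2 := hsw.mem h hK'
          rcases hK.cases hK' h (Ne.symm hKK) h2 with h3 | h3
          · exact h3
          · exact absurd h3 (hsw.2 K' hK')
        rw [← h1]
        exact conj_mem_cj hy'
      · calc e i p * y' * (e i p)⁻¹ * (e i p * y' * (e i p)⁻¹) = e i p * (y' * y') * (e i p)⁻¹ := by group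
          _ = _ := by rw [hyy', nil.comm_cl hbD (c.cl i p), mul_inv_cancel_right]
      · intro p' q'
        have h1 : (e i p)⁻¹ * e p' q' * (e i p)⁻¹⁻¹ = e p' q' := by
          rw [inv_inv, mul_assoc, hcm p' q' i p, inv_mul_cancel_left]
        calc e i p * y' * (e i p)⁻¹ * e p' q' * (e i p * y' * (e i p)⁻¹)⁻¹
            = e i p * (y' * ((e i p)⁻¹ * e p' q' * (e i p)⁻¹⁻¹) * y'⁻¹) * (e i p)⁻¹ := by group
          _ = e i p * (y' * e p' q' * y'⁻¹) * (e i p)⁻¹ := by rw [h1]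
          _ = _ := by rw [a', hcm i p, mul_inv_cancel_right]
  refine ⟨K, hK, y₁, hy₁, y₂, hy₂, hyy₁, hyy₂, ?_, a₁, a₂⟩
  intro hcomm
  -- the actions on `e i k` are different
  have e1 : y₁ * e i k * y₁⁻¹ = e j l := by
    rw [a₁]
    have h1 : Equiv.swap i j (Equiv.swap k l i) = j := by
      rw [Equiv.swap_apply_of_ne_of_ne hd.ik hd.il, Equiv.swap_apply_left]
    have h2 : Equiv.swap i j (Equiv.swap k l k) = l := by
      rw [Equiv.swap_apply_left, Equiv.swap_apply_of_ne_of_ne hd.il.symm hd.jl.symm]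
    rw [h1, h2]
  have e2 : y₂ * e i k * y₂⁻¹ = e k i := by
    rw [a₂]
    have h1 : Equiv.swap i k (Equiv.swap j l i) = k := by
      rw [Equiv.swap_apply_of_ne_of_ne hd.ij hd.il, Equiv.swap_apply_left]
    have h2 : Equiv.swap i k (Equiv.swap j l k) = i := by
      rw [Equiv.swap_apply_of_ne_of_ne hd.jk.symm hd.kl, Equiv.swap_apply_right]
    rw [h1, h2]
  have h3 : y₁ * e i k * y₁⁻¹ = y₂ * e i k * y₂⁻¹ := by
    have hb : ∀ g ∈ K, (e i j * e k l * g) * e i k * (e i j * e k l * g)⁻¹ = g * e i k * g⁻¹ := by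
      intro g hg
      have hgN : g * e i k * g⁻¹ ∈ closure D := nil.cl_conj hbD (hK.le_RZ hg) (c.cl i k)
      calc (e i j * e k l * g) * e i k * (e i j * e k l * g)⁻¹
          = (e i j * e k l) * (g * e i k * g⁻¹) * (e i j * e k l)⁻¹ := by group
        _ = _ := by rw [nil.cl_comm (subset_closure hbD) hgN, mul_inv_cancel_right]
    rcases hK.of_comm h hy₂ hyy₂ hy₁ hcomm.symm with h4 | h4 | h4 | h4
    · exfalso
      rw [h4, one_mul] at hyy₁; exact hbZ.z1 h hyy₁.symm
    · exfalso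
      rw [h4, hbZ.z2 h] at hyy₁; exact hbZ.z1 h hyy₁.symm
    · rw [h4]
    · rw [h4, hb y₂ hy₂]
  rw [e1, e2] at h3
  -- `e j l = e k i`, so `b = 1`
  apply hbZ.z1 h
  rw [← hbb, h3, c.add, c.self]

/-- the members are generated by noncommuting elements of order 4 -/
theorem comm_of_two (h : WM Om) (hK : Mem Om z K) {y₁ y₂ : G} (hy₁ : y₁ ∈ K) (hy₂ : y₂ ∈ K) (h1 : y₁ * y₁ = z)
    (h2 : y₂ * y₂ = z) (hn : y₁ * y₂ ≠ y₂ * y₁) (c1 : x * y₁ = y₁ * x) (c2 : x * y₂ = y₂ * x) :
    ∀ k ∈ K, x * k = k * x := by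
  have hz : x * z = z * x := by rw [← h1, ← mul_assoc, c1, mul_assoc, c1, mul_assoc]
  have hle : K ≤ centralizer {x} := by
    have hc : closure {y₁, y₂} ≤ centralizer ({x} : Set G) := by
      refine (closure_le _).2 ?_
      rintro g (rfl | rfl)
      · exact mem_centralizer_singleton_iff.2 c1.symm
      · exact mem_centralizer_singleton_iff.2 c2.symm
    refine le_trans ?_ hc
    intro k hk
    have m1 : y₁ ∈ closure {y₁, y₂} := subset_closure (by simp)
    have m2 : y₂ ∈ closure {y₁, y₂} := subset_closure (by simp)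
    have mz : z ∈ closure {y₁, y₂} := by rw [← h1]; exact mul_mem m1 m1
    -- `k` commutes with `y₁` or `y₁ y₂ k`... use the four cosets
    have hcase : ∀ k ∈ K, k * y₁ = y₁ * k → k ∈ closure {y₁, y₂} := by
      intro k hk hc
      rcases hK.of_comm h hy₁ h1 hk hc.symm with h4 | h4 | h4 | h4
      · rw [h4]; exact one_mem _
      · rw [h4]; exact mz
      · rw [h4]; exact m1
      · rw [h4]; exact mul_mem mz m1
    by_cases hc : k * y₁ = y₁ * k
    · exact hcase k hk hc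
    · have e1 : k * y₁ = z * (y₁ * k) := by
        rcases hK.comm_or h hy₁ hk with h3 | h3
        · exact absurd (by rwa [mul_inv_eq_iff_eq_mul] at h3) hc
        · rw [mul_inv_eq_iff_eq_mul] at h3; rw [h3, mul_assoc]
      have e2 : y₂ * y₁ = z * (y₁ * y₂) := by
        rcases hK.comm_or h hy₁ hy₂ with h3 | h3
        · exact absurd (by rw [mul_inv_eq_iff_eq_mul] at h3; exact h3.symm) hn
        · rw [mul_inv_eq_iff_eq_mul] at h3; rw [h3, mul_assoc]
      have zz := hK.inZ.z2 h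
      have czk := hK.comm_z h hk
      have cz1 := hK.comm_z h hy₁
      have h5 := hcase (y₂ * k) (mul_mem hy₂ hk) (by
        calc y₂ * k * y₁ = y₂ * (k * y₁) := by group
          _ = y₂ * (z * (y₁ * k)) := by rw [e1]
          _ = (y₂ * z) * (y₁ * k) := by group
          _ = z * (y₂ * y₁) * k := by rw [hK.comm_z h hy₂]; group
          _ = (z * z) * (y₁ * (y₂ * k)) := by rw [e2]; group
          _ = _ := by rw [zz, one_mul])
      have h6 := mul_mem (inv_mem m2) h5
      rwa [inv_mul_cancel_left] at h6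
  intro k hk
  exact (mem_centralizer_singleton_iff.1 (hle hk)).symm

/-- `e p q`, `p, q` outside `b`, centralises a member over `b` -/
theorem _root_.Cfsg.Agent.Cit.Nil.RTwoM.ChtG.pair_comm {n : ℕ} (hn : 5 ≤ n) {e : Fin n → Fin n → G}
    (c : ChtG Om D e) (nil : NilS Om D) (h : WM Om) {i j k l p q : Fin n} (hd : Dst i j k l)
    (hp : p ≠ i ∧ p ≠ j ∧ p ≠ k ∧ p ≠ l) (hq : q ≠ i ∧ q ≠ j ∧ q ≠ k ∧ q ≠ l) :
    ∃ K, Mem Om (e i j * e k l) K ∧ ∀ g ∈ K, e p q * g = g * e p q := by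
  obtain ⟨K, hK, y₁, hy₁, y₂, hy₂, hyy₁, hyy₂, hne, a₁, a₂⟩ := c.exists_two hn nil h hd
  refine ⟨K, hK, comm_of_two h hK hy₁ hy₂ hyy₁ hyy₂ hne ?_ ?_⟩
  · have h1 := a₁ p q
    rw [Equiv.swap_apply_of_ne_of_ne hp.2.2.1 hp.2.2.2, Equiv.swap_apply_of_ne_of_ne hp.1 hp.2.1,
      Equiv.swap_apply_of_ne_of_ne hq.2.2.1 hq.2.2.2, Equiv.swap_apply_of_ne_of_ne hq.1 hq.2.1,
      mul_inv_eq_iff_eq_mul] at h1
    exact h1.symm
  · have h1 := a₂ p q
    rw [Equiv.swap_apply_of_ne_of_ne hp.2.1 hp.2.2.2, Equiv.swap_apply_of_ne_of_ne hp.1 hp.2.2.1,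
      Equiv.swap_apply_of_ne_of_ne hq.2.1 hq.2.2.2, Equiv.swap_apply_of_ne_of_ne hq.1 hq.2.2.1,
      mul_inv_eq_iff_eq_mul] at h1
    exact h1.symm

end Fin

end Cfsg.Agent.Cit.Nil.RTwoM.Two
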