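import Cfsg.Agent.Cit.Nil.RTwoM.NilZ

/-!
# S1309, (6b), (C3), `r = 2`, `m = 2`, `LAMBDA0`: the LINKED world with `|a0(z)| = 1` (section 4 of CIT-6b-r2-m2)

* `Sg Om s` : `s = z u`, `(z, u)` a C-pair; `LX Om` : the world (every `z ∈ Z` has exactly one C-partner, `b ∈ Z(s)`
  implies `b s ∈ Z(s)`, parity of `Z(s)`);
* `LX.s_mem` : `x ∈ Z ∩ C(s)`, `x ∉ Z(s)` ⟹ `s ∈ R_x`;
* **`LX.mem_ZS`** : `Z ∩ C(s) = Z(s)`.
-/

set_option autoImplicit false
set_option linter.style.haveILetI false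
set_option linter.unusedSectionVars false

namespace Cfsg.Agent.Cit.Nil.RTwoM.Two

open Subgroup Cfsg Cfsg.Agent.Cit

open RTwo (Q3)
open RG (WR CP Ov InO Tr)
open RI (CS)

variable {G : Type*} [Group G] {Om : Set (Subgroup G)} {K L M : Subgroup G} {D : Set G}
  {a b c d g g' k l m n p q r s t u v w x y z : G}

/-- `s = z u`, `(z, u)` a C-pair -/
def Sg (Om : Set (Subgroup G)) (s : G) : Prop := ∃ z u, InZ Om z ∧ InZ Om u ∧ CP Om z u ∧ s = z * u

/-- the LINKED world with `|a0(z)| = 1` -/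
structure LX (Om : Set (Subgroup G)) : Prop where
  h : WM Om
  l0 : L0 Om
  an : ∀ s, Sg Om s → ANt Om s
  /-- exactly one C-partner -/
  one : ∀ z u v, InZ Om z → InZ Om u → InZ Om v → CP Om z u → CP Om z v → u = v
  ex : ∀ z, InZ Om z → ∃ u, InZ Om u ∧ CP Om z u
  /-- linked -/
  bs : ∀ s, Sg Om s → ∀ b ∈ ZS Om s, InZ Om (b * s) ∧ CP Om b (b * s)
  odd : ∀ s, Sg Om s → (ZS Om s).ncard % 4 = 2
  inA : ∀ s, Sg Om s → ∀ x ∈ NZ Om s, InZ Om x → x ∈ ZS Om s
  odd' : ∀ s, Sg Om s → ∀ q ∈ NZ Om s, q ≠ 1 → q ≠ s → ¬ InZ Om q → {b | b ∈ ZS Om s ∧ b * q ∉ ZS Om s}.ncard % 4 = 2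

section Fin

variable [Finite G]

/-- the four-group `{1, b, s, b s}` -/
def VF (b s : G) (hb : b * b = 1) (hs : s * s = 1) (hbs : b * s = s * b) : Subgroup G where
  carrier := {v | VV b s v}
  mul_mem' hv hw := VV.mul hb hs hbs hv hw
  one_mem' := VV.one
  inv_mem' := by
    rintro v hv
    have h1 : v * v = 1 := by
      have hbb : ∀ g : G, b * (b * g) = g := fun g => by rw [← mul_assoc, hb, one_mul]
      rcases hv with rfl | rfl | rfl | rfl
      · rw [one_mul]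
      · exact hb
      · exact hs
      · calc b * s * (b * s) = b * (s * b) * s := by group
          _ = b * (b * s) * s := by rw [hbs]
          _ = (b * b) * (s * s) := by group
          _ = 1 := by rw [hb, hs, one_mul]
    show VV b s v⁻¹
    rw [inv_eq_of_mul_eq_one_right h1]
    exact hv

theorem mem_VF {hb : b * b = 1} {hs : s * s = 1} {hbs : b * s = s * b} : v ∈ VF b s hb hs hbs ↔ VV b s v := Iff.rfl

/-- a set closed under multiplication by `s` and conjugation by `x`, with `2 mod 4` elements, contains a fixed point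
of `x` (`b^x ≠ b s`) -/
theorem exists_fix_mod4 (Y : Set G) (hs : s * s = 1) (hs1 : s ≠ 1) (hx : x * x = 1) (hxs : x * s = s * x)
    (hYs : ∀ b ∈ Y, b * s ∈ Y) (hYx : ∀ b ∈ Y, x * b * x⁻¹ ∈ Y) (hc : ∀ b ∈ Y, x * b * x⁻¹ ≠ b * s)
    (ho : Y.ncard % 4 = 2) : ∃ b ∈ Y, x * b = b * x := by
  classical
  by_contra hcon
  push Not at hcon
  have hne : ∀ b ∈ Y, x * b * x⁻¹ ≠ b := fun b hb h1 => hcon b hb (by rwa [mul_inv_eq_iff_eq_mul] at h1)
  have hxi : x⁻¹ = x := inv_eq_of_mul_eq_one_right hx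
  obtain ⟨Z, hZ⟩ : ∃ Z : Finset G, ∀ b, b ∈ Z ↔ b ∈ Y := ⟨(Set.toFinite Y).toFinset, fun b => by simp⟩
  have hcard : Z.card = Y.ncard := by
    rw [← Set.ncard_coe_finset]
    congr 1
    ext b; exact hZ b
  obtain ⟨f, hf⟩ : ∃ f : G → Finset G, ∀ b, f b = {b, b * s, x * b * x⁻¹, x * b * x⁻¹ * s} := ⟨_, fun _ => rfl⟩
  have hbs : ∀ b : G, b * s * s = b := fun b => by rw [mul_assoc, hs, mul_one]
  have hxx : ∀ b : G, x * (x * b * x⁻¹) * x⁻¹ = b := fun b => by
    calc x * (x * b * x⁻¹) * x⁻¹ = (x * x) * b * (x * x)⁻¹ := by group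
      _ = b := by rw [hx]; group
  have hxbs : ∀ b : G, x * (b * s) * x⁻¹ = x * b * x⁻¹ * s := fun b => by
    have h1 : s * x⁻¹ = x⁻¹ * s := by rw [hxi, hxs]
    calc x * (b * s) * x⁻¹ = x * b * (s * x⁻¹) := by group
      _ = _ := by rw [h1]; group
  have hsame : ∀ b c : G, c ∈ f b → f c = f b := by
    intro b c hc
    have h0 := hc
    rw [hf] at h0
    simp only [Finset.mem_insert, Finset.mem_singleton] at h0
    rw [hf, hf]
    ext y
    simp only [Finset.mem_insert, Finset.mem_singleton]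
    rcases h0 with rfl | rfl | rfl | rfl
    · rfl
    · rw [hbs, hxbs, hbs]; tauto
    · rw [hxx]; tauto
    · rw [hbs, hxbs, hxx, hbs]; tauto
  have hself : ∀ b : G, b ∈ f b := fun b => by rw [hf]; simp
  have hfib : ∀ o ∈ Z.image f, (Z.filter fun c => f c = o).card = 4 := by
    intro o ho'
    obtain ⟨b, hb, rfl⟩ := Finset.mem_image.1 ho'
    have hbY := (hZ b).1 hb
    have h1 : (Z.filter fun c => f c = f b) = f b := by
      ext c
      rw [Finset.mem_filter]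
      constructor
      · rintro ⟨-, h2⟩
        rw [← h2]; exact hself c
      · intro h2
        refine ⟨?_, hsame b c h2⟩
        rw [hf] at h2
        simp only [Finset.mem_insert, Finset.mem_singleton] at h2
        rw [hZ]
        rcases h2 with rfl | rfl | rfl | rfl
        · exact hbY
        · exact hYs _ hbY
        · exact hYx _ hbY
        · exact hYs _ (hYx _ hbY)
    rw [h1, hf]
    have e1 : b ≠ b * s := fun h2 => hs1 (mul_eq_left.1 h2.symm)
    have e2 : b ≠ x * b * x⁻¹ := (hne b hbY).symm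
    have e3 : b ≠ x * b * x⁻¹ * s := fun h2 => hc b hbY (by
      conv_rhs => rw [h2]
      rw [hbs])
    have e4 : b * s ≠ x * b * x⁻¹ := (hc b hbY).symm
    have e5 : b * s ≠ x * b * x⁻¹ * s := fun h2 => e2 (mul_right_cancel h2)
    have e6 : x * b * x⁻¹ ≠ x * b * x⁻¹ * s := fun h2 => hs1 (mul_eq_left.1 h2.symm)
    rw [Finset.card_insert_of_notMem, Finset.card_insert_of_notMem, Finset.card_insert_of_notMem,
      Finset.card_singleton]
    · simpa using e6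
    · simp only [Finset.mem_insert, Finset.mem_singleton]; push Not; exact ⟨e4, e5⟩
    · simp only [Finset.mem_insert, Finset.mem_singleton]; push Not; exact ⟨e1, e2, e3⟩
  have htot : Z.card = ∑ o ∈ Z.image f, (Z.filter fun c => f c = o).card :=
    Finset.card_eq_sum_card_fiberwise fun c hc => by
      simpa using ⟨c, hc, rfl⟩
  rw [Finset.sum_congr rfl hfib, Finset.sum_const, smul_eq_mul] at htot
  rw [← hcard, htot] at ho
  omega

namespace LX

variable (X : LX Om)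

include X

theorem s_ne (hs : Sg Om s) : s ≠ 1 := by
  obtain ⟨z, u, hz, hu, hc, rfl⟩ := hs
  intro h1
  have h2 : z = u := by rw [eq_inv_of_mul_eq_one_left h1, hu.inv X.h]
  exact hc.1 (by rw [h2])

theorem s_sq (hs : Sg Om s) : s * s = 1 := by
  obtain ⟨z, u, hz, hu, hc, rfl⟩ := hs
  have h1 := cp_comm X.h hz hu hc
  calc z * u * (z * u) = z * (u * z) * u := by group
    _ = z * (z * u) * u := by rw [h1]
    _ = (z * z) * (u * u) := by group
    _ = 1 := by rw [hz.z2 X.h, hu.z2 X.h, one_mul]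

/-- `C(z) ≤ C(φ(z))` -/
theorem comm (hz : InZ Om z) (hu : InZ Om u) (hc : CP Om z u) (hg : g * z = z * g) : g * u = u * g := by
  have h1 := cp_conj X.h hc g
  rw [hg, mul_inv_cancel_right] at h1
  have h2 := X.one z _ _ hz hu (hu.conj X.h g) hc h1
  rw [eq_mul_inv_iff_mul_eq] at h2
  exact h2.symm

/-- `φ(b) = b s` -/
theorem phi (hs : Sg Om s) (hb : b ∈ ZS Om s) (hv : InZ Om v) (hc : CP Om b v) : v = b * s := by
  obtain ⟨h1, h2⟩ := X.bs s hs b hb
  exact X.one b _ _ hb.1 hv h1 hc h2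

theorem bs_mem (hs : Sg Om s) (hb : b ∈ ZS Om s) : b * s ∈ ZS Om s := by
  obtain ⟨h1, h2⟩ := X.bs s hs b hb
  refine ⟨h1, ?_⟩
  have h3 : b * (b * s) ∈ CX Om (b * s) := mul_mem (cp_cx X.h hb.1 h2.symm) (z_mem_CX X.h)
  rwa [← mul_assoc, hb.1.z2 X.h, one_mul] at h3

/-- `s = s(b)` -/
theorem sg_of (hz : InZ Om z) (hu : InZ Om u) (hc : CP Om z u) : Sg Om (z * u) ∧ z ∈ ZS Om (z * u) := by
  refine ⟨⟨z, u, hz, hu, hc, rfl⟩, hz, ?_⟩
  exact mul_mem (z_mem_CX X.h) (cp_cx X.h hu hc)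

theorem comm_s (hs : Sg Om s) (hb : b ∈ ZS Om s) (hg : g * b = b * g) : g * s = s * g := by
  obtain ⟨h1, h2⟩ := X.bs s hs b hb
  have h3 := X.comm hb.1 h1 h2 hg
  have h4 : s = b * (b * s) := by rw [← mul_assoc, hb.1.z2 X.h, one_mul]
  calc g * s = g * (b * (b * s)) := by rw [← h4]
    _ = (g * b) * (b * s) := by group
    _ = b * (g * (b * s)) := by rw [hg]; group
    _ = b * (b * s) * g := by rw [h3]; group
    _ = _ := by rw [← h4]

/-- `Z ∩ R_x = {x}` -/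
theorem thin (hx : InZ Om x) (hq : InZ Om q) (hqx : q ∈ RZ Om x) : q = x := by
  by_contra hne
  have ti := TI.of_mem_RZ X.h hx hq (Ne.symm hne) hqx
  obtain ⟨u, hu, hc⟩ := X.ex x hx
  have h1 := (ti.cp_iff X.h hqx hu).1 hc
  exact hne (X.one u q x hu hq hx h1.symm hc.symm)

/-- the J-ARGUMENT for `⟨b, b s⟩` -/
theorem jf (hs : Sg Om s) (hx : InZ Om x) (hxs : x * s = s * x) (hxn : x ∉ ZS Om s) (hb : b ∈ ZS Om s)
    (hbx : x * b = b * x) :
    ∃ hb2 hs2 hbs, JF Om (NZ Om s) (VF b s hb2 hs2 hbs) x := by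
  have hb2 := hb.1.z2 X.h
  have hs2 := X.s_sq hs
  have hbs : b * s = s * b := (ZS_comm_s X.h hb).symm
  refine ⟨hb2, hs2, hbs, ?_⟩
  have hxA : x ∉ NZ Om s := fun h1 => hxn (X.inA s hs x h1 hx)
  have hbA := mem_NZ hb
  have hbsA := mem_NZ (X.bs_mem hs hb)
  have hsA : s ∈ NZ Om s := by
    have h1 := mul_mem hbA hbsA
    rwa [← mul_assoc, hb2, one_mul] at h1
  have hle : VF b s hb2 hs2 hbs ≤ NZ Om s := by
    rintro v (rfl | rfl | rfl | rfl)
    · exact one_mem _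
    · exact hbA
    · exact hsA
    · exact hbsA
  have hbsx : x * (b * s) = (b * s) * x := by rw [← mul_assoc, hbx, mul_assoc, hxs, mul_assoc]
  have jh : JH Om (NZ Om s) (VF b s hb2 hs2 hbs) x := by
    refine JH.of_NZ X.h X.l0 (X.an s hs) hx hxA hle ?_ ?_
    · rintro t (rfl | rfl | rfl | rfl)
      · rw [one_mul, mul_one]
      · exact hbx.symm
      · exact hxs.symm
      · exact hbsx.symm
    · rintro t (rfl | rfl | rfl | rfl) ht1 r hr hrt
      · exact absurd rfl ht1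
      · exact X.comm_s hs hb hrt.symm
      · exact hrt.symm
      · exact X.comm_s hs (X.bs_mem hs hb) hrt.symm
  have hff : ∀ b ∈ ZS Om s, b ∉ CX Om x := by
    intro b hb h1
    rcases (cen_iff X.h hx hb.1).1 h1 with h2 | h2
    · rw [h2] at hxn; exact hxn hb
    · have h3 := X.phi hs hb hx h2.symm
      rw [h3] at hxn
      exact hxn (X.bs_mem hs hb)
  refine { jh with ff := ?_, three := ?_ }
  · rintro t (rfl | rfl | rfl | rfl) ht
    · rfl
    · exact absurd ht (hff _ hb)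
    · exact absurd ⟨hx, ht⟩ hxn
    · exact absurd ht (hff _ (X.bs_mem hs hb))
  · refine ⟨b, Or.inr (Or.inl rfl), s, Or.inr (Or.inr (Or.inl rfl)), hb.1.z1 X.h, X.s_ne hs, ?_⟩
    rintro rfl
    obtain ⟨h1, h2⟩ := X.bs _ hs _ hb
    exact h1.z1 X.h hb2

/-- the result of the J-ARGUMENT: `s` acts as `q ∈ N_s ∩ R_x`, `b` is a swap, `b^a = b q` -/
theorem jmain (hs : Sg Om s) (hx : InZ Om x) (hxs : x * s = s * x) (hxn : x ∉ ZS Om s) (hb : b ∈ ZS Om s)
    (hbx : x * b = b * x) :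
    ∃ q ∈ NZ Om s, q ∈ RZ Om x ∧ q ≠ 1 ∧ b * q ∈ ZS Om s ∧ ∀ g ∈ NZ Om s, g ∈ RZ Om x → g = 1 ∨ g = q := by
  obtain ⟨hb2, hs2, hbs, j⟩ := X.jf hs hx hxs hxn hb hbx
  obtain ⟨K, hK⟩ := hx
  obtain ⟨p, hp, s', hs', a, ha, hsw, hs'1, hs'p, haa, has, has', hall, hqA, hq⟩ := j.main X.h hK
  have hp2 : p * p = 1 := j.sq p (j.le hp)
  -- an element of order 4 of `K` is not centralised by `p`
  have hpa : p * a ≠ a * p := by
    intro h1
    have h2 : p * a * p⁻¹ = a := by rw [h1, mul_inv_cancel_right]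
    have h3 := hsw.inf X.h hK ha (conj_mem_cj (g := p) ha) h2.symm
    rcases h3 with h3 | h3
    · rw [h3, one_mul] at haa; exact hK.inZ.z1 X.h haa.symm
    · rw [h3, hK.inZ.z2 X.h] at haa; exact hK.inZ.z1 X.h haa.symm
  -- `a` commutes with `s`
  have hsa := has.comm
  have key : ∀ c ∈ ZS Om s, (∀ v, VV b s v → VV c s v) → c * a ≠ a * c := by
    intro c hc hle h1
    have h2 := X.comm_s hs hc h1.symm
    rcases hle p hp with h3 | h3 | h3 | h3
    · rw [h3] at hpa; exact hpa (by rw [one_mul, mul_one])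
    · rw [h3] at hpa; exact hpa h1
    · rw [h3] at hpa; exact hpa h2.symm
    · rw [h3] at hpa
      exact hpa (by rw [mul_assoc, ← h2, ← mul_assoc, h1, mul_assoc])
  have hs's : s' = s := by
    rcases hs' with h1 | h1 | h1 | h1
    · exact absurd h1 hs'1
    · exfalso
      rw [h1] at hsa
      exact key b hb (fun _ h => h) hsa
    · exact h1
    · exfalso
      rw [h1] at hsa
      refine key (b * s) (X.bs_mem hs hb) ?_ hsa
      have e : b * s * s = b := by rw [mul_assoc, hs2, mul_one]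
      rintro v (rfl | rfl | rfl | rfl)
      · exact Or.inl rfl
      · exact Or.inr (Or.inr (Or.inr e.symm))
      · exact Or.inr (Or.inr (Or.inl rfl))
      · exact Or.inr (Or.inl rfl)
  rw [hs's] at hsa hall
  have hqx : x * qq p a ∈ RZ Om x := mul_mem (z_mem_RZ hK.inZ X.h) (qq_mem hsw X.h hK ha)
  refine ⟨x * qq p a, hqA, hqx, ?_, ?_, hq⟩
  · intro h1
    apply hpa
    have h2 : p * a * p⁻¹ = a⁻¹ * (x⁻¹ * (x * qq p a)) := by rw [qq]; group
    rw [h1, mul_one] at h2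
    have h3 : p * a * p⁻¹ = a := by
      rw [h2, hK.inZ.inv X.h, hK.inv_eq X.h ha haa, mul_assoc, hK.comm_z X.h ha, ← mul_assoc, hK.inZ.z2 X.h,
        one_mul]
    rwa [mul_inv_eq_iff_eq_mul] at h3
  · -- `a⁻¹ b a = q b`
    have h1 : b * a * b⁻¹ = p * a * p⁻¹ := by
      rcases hall b (Or.inr (Or.inl rfl)) with h2 | h2 | h2 | h2
      · exact absurd h2 (hb.1.z1 X.h)
      · exfalso
        have h3 := (X.bs s hs b hb).1.z1 X.h
        rw [h2] at h3
        exact h3 hs2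
      · rw [h2]
      · have h3 : s * a * s⁻¹ = a := by rw [hsa, mul_inv_cancel_right]
        calc b * a * b⁻¹ = p * (s * a * s⁻¹) * p⁻¹ := by rw [h2]; group
          _ = _ := by rw [h3]
    have h2 : a⁻¹ * b * a⁻¹⁻¹ = x * qq p a * b := by
      calc a⁻¹ * b * a⁻¹⁻¹ = a⁻¹ * (b * a * b⁻¹) * b := by group
        _ = x * a * (p * a * p⁻¹) * b := by rw [h1, hK.inv_eq X.h ha haa]
        _ = _ := by rw [qq]; group
    have h3 : a⁻¹ * b * a⁻¹⁻¹ ∈ ZS Om s := ZS_conj X.h hb (by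
      rw [inv_mul_eq_iff_eq_mul, ← mul_assoc, ← hsa, mul_inv_cancel_right])
    rw [h2] at h3
    rwa [NZ_comm X.h X.l0 (X.an s hs) (mem_NZ hb) hqA]

/-- **`s ∈ R_x`** -/
theorem s_mem (hs : Sg Om s) (hx : InZ Om x) (hxs : x * s = s * x) (hxn : x ∉ ZS Om s) : s ∈ RZ Om x := by
  have hs2 := X.s_sq hs
  have hx2 := hx.z2 X.h
  have hC : ∀ b ∈ ZS Om s, x * b * x⁻¹ ≠ b * s := by
    intro b hb h1
    apply X.l0 b x hb.1 hx
    rw [h1]
    exact (X.bs s hs b hb).2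
  obtain ⟨b, hb, hbx⟩ := exists_fix_mod4 (ZS Om s) hs2 (X.s_ne hs) hx2 hxs (fun b hb => X.bs_mem hs hb)
    (fun b hb => ZS_conj X.h hb hxs) hC (X.odd s hs)
  obtain ⟨q, hqA, hqx, hq1, hbq, hq⟩ := X.jmain hs hx hxs hxn hb hbx
  by_cases hqs : q = s
  · rwa [hqs] at hqx
  exfalso
  have hqZ : ¬ InZ Om q := by
    intro h1
    have h2 := X.thin hx h1 hqx
    rw [h2] at hqA
    exact hxn (X.inA s hs x hqA hx)
  have hqc : x * q = q * x := (RZ_le_centralizer X.h hqx).symm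
  have hqs' : q * s = s * q := NZ_cen X.h hqA
  obtain ⟨b', ⟨hb', hb'q⟩, hb'x⟩ := exists_fix_mod4 {b | b ∈ ZS Om s ∧ b * q ∉ ZS Om s} hs2 (X.s_ne hs) hx2 hxs
    (by
      rintro c ⟨hc, hcq⟩
      refine ⟨X.bs_mem hs hc, fun h1 => hcq ?_⟩
      have h2 := X.bs_mem hs h1
      have h3 : c * s * q * s = c * q := by
        rw [mul_assoc (c * s), hqs', ← mul_assoc, mul_assoc c, hs2, mul_one]
      rwa [h3] at h2)
    (by
      rintro c ⟨hc, hcq⟩
      refine ⟨ZS_conj X.h hc hxs, fun h1 => hcq ?_⟩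
      have h2 := ZS_conj X.h h1 hxs
      have h3 : x * (x * c * x⁻¹ * q) * x⁻¹ = c * q := by
        have e : x⁻¹ * q = q * x⁻¹ := by rw [hx.inv X.h, hqc]
        calc x * (x * c * x⁻¹ * q) * x⁻¹ = (x * x) * c * (x⁻¹ * q) * x⁻¹ := by group
          _ = (x * x) * c * q * (x * x)⁻¹ := by rw [e]; group
          _ = c * q := by rw [hx2]; group
      rwa [h3] at h2)
    (fun c hc => hC c hc.1) (X.odd' s hs q hqA hq1 hqs hqZ)
  obtain ⟨q', hq'A, hq'x, hq'1, hbq', -⟩ := X.jmain hs hx hxs hxn hb' hb'x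
  rcases hq q' hq'A hq'x with h1 | h1
  · exact hq'1 h1
  · rw [h1] at hbq'
    exact hb'q hbq'

/-- **`Z ∩ C(s) = Z(s)`** -/
theorem mem_ZS (hs : Sg Om s) (hx : InZ Om x) (hxs : x * s = s * x) : x ∈ ZS Om s := by
  by_contra hxn
  have hs2 := X.s_sq hs
  obtain ⟨b, hb, hbx⟩ := exists_fix_mod4 (ZS Om s) hs2 (X.s_ne hs) (hx.z2 X.h) hxs (fun b hb => X.bs_mem hs hb)
    (fun b hb => ZS_conj X.h hb hxs) (by
      intro b hb h1
      apply X.l0 b x hb.1 hx
      rw [h1]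
      exact (X.bs s hs b hb).2) (X.odd s hs)
  obtain ⟨y, hy, hc⟩ := X.ex x hx
  obtain ⟨hsx, hxm⟩ := X.sg_of hx hy hc
  obtain ⟨hu, hcu⟩ := X.bs s hs b hb
  -- `s(x) ∈ R_c` for `c ∈ Z(s)` commuting with `x`
  have key : ∀ c ∈ ZS Om s, x * c = c * x → x * y ∈ RZ Om c := by
    intro c hc' hcx
    have h1 : c * (x * y) = (x * y) * c := by
      have h2 := X.comm hx hy hc hcx.symm
      rw [← mul_assoc, ← hcx, mul_assoc, h2, mul_assoc]
    refine X.s_mem hsx hc'.1 h1 fun h2 => hxn ?_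
    -- `s(c) = s(x)`
    have h3 := X.phi hs hc' (X.bs _ hsx c h2).1 (X.bs _ hsx c h2).2
    rw [← mul_left_cancel h3]
    exact hxm
  have h1 := key b hb hbx
  have h2 := key (b * s) (X.bs_mem hs hb) (by rw [← mul_assoc, hbx, mul_assoc, hxs, mul_assoc])
  have h3 : x * y ∈ CX Om b := by
    rw [mem_CX]
    exact fun K hK k hk => (cp_RZ X.h hcu (hK.le_RZ hk) h2).symm
  have h4 : x * y ∈ CX Om (b * s) := by
    rw [mem_CX]
    exact fun K hK k hk => cp_RZ X.h hcu h1 (hK.le_RZ hk)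
  rcases RZ_CX X.h hb.1 h1 h3 with h5 | h5
  · exact X.s_ne hsx h5
  rcases RZ_CX X.h hu h2 h4 with h6 | h6
  · exact X.s_ne hsx h6
  · rw [h5] at h6
    exact X.s_ne hs (mul_eq_left.1 h6.symm)

end LX

end Fin

end Cfsg.Agent.Cit.Nil.RTwoM.Two
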