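import Cfsg.Agent.Cit.Nil.RTwoM.Two.Eps
import Cfsg.Agent.Cit.Nil.RTwoM.Two.LinkOne

/-!
# S1309, (6b), (C3), `r = 2`, `m = 2`: the LINKED worlds (14) and (70), data

* `Lk14 Om s`, `Lk70 Om s` : the two possibilities for a linked `Z(s)`;
* `Lk70.out` : in case (70) the chart has 8 points and `ε 1 = s`; `P70`;
* **`LX.of`** : the structure `LX` (|a0(z)| = 1) from `Lk14` or `Lk70` for all `s`.
-/

set_option autoImplicit false
set_option linter.style.haveILetI false
set_option linter.unusedSectionVars false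

namespace Cfsg.Agent.Cit.Nil.RTwoM.Two

open Subgroup Cfsg Cfsg.Agent.Cit

open RTwo (Q3)
open RG (WR CP Ov InO Tr)
open RI (CS)
open Blk (dl dl_self dl_ne dl_comm Dst)

variable {G : Type*} [Group G] {Om : Set (Subgroup G)} {K L M : Subgroup G} {D : Set G}
  {a b c d g g' m q r s t u w x y z : G}

/-- case (14) -/
def Lk14 (Om : Set (Subgroup G)) (s : G) : Prop :=
  (ZS Om s).ncard = 14 ∧ (∀ b ∈ ZS Om s, InZ Om (b * s)) ∧ ∀ q ∈ NZ Om s, q = 1 ∨ q = s ∨ q ∈ ZS Om s

/-- case (70) -/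
def Lk70 (Om : Set (Subgroup G)) (s : G) : Prop :=
  ∃ n, 5 ≤ n ∧ ∃ e : Fin n → Fin n → G, ChtG Om (ZS Om s) e ∧ ∀ v ∈ ZS Om s, InG e v

/-! ### Vectors and sets -/

/-- the characteristic vector of a set -/
def ind {n : ℕ} (S : Finset (Fin n)) : Fin n → ZMod 2 := fun p => if p ∈ S then 1 else 0

theorem ind_inj {n : ℕ} : Function.Injective (ind (n := n)) := by
  intro S T h
  ext p
  have h1 := congrFun h p
  simp only [ind] at h1
  by_cases h2 : p ∈ S <;> by_cases h3 : p ∈ T <;> simp_all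

theorem exists_ind {n : ℕ} (v : Fin n → ZMod 2) : ∃ S, v = ind S := by
  refine ⟨Finset.univ.filter fun p => v p = 1, ?_⟩
  funext p
  simp only [ind, Finset.mem_filter, Finset.mem_univ, true_and]
  rcases Blk.z2 (v p) with h | h
  · rw [h, if_neg (by decide)]
  · rw [h, if_pos rfl]

theorem ind_add {n : ℕ} (S T : Finset (Fin n)) : ind S + ind T = ind (symmDiff S T) := by
  funext p
  show ind S p + ind T p = ind (symmDiff S T) p
  simp only [ind, Finset.mem_symmDiff]
  by_cases h2 : p ∈ S <;> by_cases h3 : p ∈ T <;> simp [h2, h3] <;> decide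

theorem ind_compl {n : ℕ} (S : Finset (Fin n)) : 1 + ind S = ind Sᶜ := by
  funext p
  show 1 + ind S p = ind Sᶜ p
  simp only [ind, Finset.mem_compl]
  by_cases h2 : p ∈ S <;> simp [h2] <;> decide

theorem ind_pair {n : ℕ} {i j : Fin n} (h : i ≠ j) : dv i + dv j = ind {i, j} := by
  funext p
  show dl i p + dl j p = ind {i, j} p
  simp only [ind, Finset.mem_insert, Finset.mem_singleton, dl]
  by_cases h1 : i = p
  · have h2 : j ≠ p := fun h2 => h (h1.trans h2.symm)
    rw [if_pos h1, if_neg h2, if_pos (Or.inl h1.symm), add_zero]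
  · by_cases h2 : j = p
    · rw [if_neg h1, if_pos h2, if_pos (Or.inr h2.symm), zero_add]
    · rw [if_neg h1, if_neg h2, if_neg (by rintro (h3 | h3); exacts [h1 h3.symm, h2 h3.symm]), add_zero]

theorem ind_four {n : ℕ} {i j k l : Fin n} (hd : Dst i j k l) : dv i + dv j + dv k + dv l = ind {i, j, k, l} := by
  rw [add_assoc, ind_pair hd.ij, ind_pair hd.kl, ind_add]
  congr 1
  ext p
  simp only [Finset.mem_symmDiff, Finset.mem_insert, Finset.mem_singleton]
  have h1 := hd.ik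
  have h2 := hd.il
  have h3 := hd.jk
  have h4 := hd.jl
  constructor
  · rintro (⟨h5 | h5, -⟩ | ⟨h5 | h5, -⟩) <;> simp [h5]
  · rintro (rfl | rfl | rfl | rfl)
    · exact Or.inl ⟨Or.inl rfl, by push Not; exact ⟨h1, h2⟩⟩
    · exact Or.inl ⟨Or.inr rfl, by push Not; exact ⟨h3, h4⟩⟩
    · exact Or.inr ⟨Or.inl rfl, by push Not; exact ⟨h1.symm, h3.symm⟩⟩
    · exact Or.inr ⟨Or.inr rfl, by push Not; exact ⟨h2.symm, h4.symm⟩⟩

theorem card_four {n : ℕ} {i j k l : Fin n} (hd : Dst i j k l) : ({i, j, k, l} : Finset (Fin n)).card = 4 := by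
  rw [Finset.card_insert_of_notMem, Finset.card_insert_of_notMem, Finset.card_insert_of_notMem, Finset.card_singleton]
  · simpa using hd.kl
  · simp only [Finset.mem_insert, Finset.mem_singleton]; push Not; exact ⟨hd.jk, hd.jl⟩
  · simp only [Finset.mem_insert, Finset.mem_singleton]; push Not; exact ⟨hd.ij, hd.ik, hd.il⟩

theorem exists_four {n : ℕ} {S : Finset (Fin n)} (h : S.card = 4) : ∃ i j k l, Dst i j k l ∧ S = {i, j, k, l} := by
  obtain ⟨i, hi⟩ : S.Nonempty := by rw [← Finset.card_pos, h]; decide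
  have h1 : (S.erase i).card = 3 := by rw [Finset.card_erase_of_mem hi, h]
  obtain ⟨j, k, l, jk, jl, kl, h2⟩ := Finset.card_eq_three.1 h1
  have h3 : ∀ p ∈ ({j, k, l} : Finset (Fin n)), i ≠ p := by
    intro p hp
    rw [← h2] at hp
    exact (Finset.ne_of_mem_erase hp).symm
  refine ⟨i, j, k, l, ⟨h3 j (by simp), h3 k (by simp), h3 l (by simp), jk, jl, kl⟩, ?_⟩
  rw [← h2, Finset.insert_erase hi]

theorem sum_ind {n : ℕ} (S : Finset (Fin n)) : ∑ p, ind S p = (S.card : ZMod 2) := by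
  simp only [ind, Finset.sum_ite_mem, Finset.univ_inter, Finset.sum_const, nsmul_eq_mul, mul_one]

theorem even_card {n : ℕ} {S : Finset (Fin n)} (h : ∑ p, ind S p = 0) : S.card % 2 = 0 := by
  rw [sum_ind] at h
  have h1 := (ZMod.natCast_eq_zero_iff S.card 2).1 h
  omega

theorem count30 : ∀ i j : Fin 8, i ≠ j →
    ((Finset.powersetCard 4 (Finset.univ : Finset (Fin 8))).filter fun S => (symmDiff S {i, j}).card ≠ 4).card = 30 := by
  decide +kernel

section Fin

variable [Finite G]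

/-- case (70), 8 points -/
structure P70 (Om : Set (Subgroup G)) (s : G) (e : Fin 8 → Fin 8 → G) (ε : (Fin 8 → ZMod 2) → G) : Prop where
  c : ChtG Om (ZS Om s) e
  gen : ∀ v ∈ ZS Om s, InG e v
  E : Eps Om (ZS Om s) e ε
  one : ε 1 = s
  ne : s ≠ 1
  nil : NilS Om (ZS Om s)

theorem Sg.mem (hs : Sg Om s) (h : WM Om) : ∃ z u, z ∈ ZS Om s ∧ u ∈ ZS Om s ∧ CP Om z u ∧ s = z * u := by
  obtain ⟨z, u, hz, hu, hc, rfl⟩ := hs
  refine ⟨z, u, ⟨hz, mul_mem (z_mem_CX h) (cp_cx h hu hc)⟩, ⟨hu, mul_mem (cp_cx h hz hc.symm) (z_mem_CX h)⟩, hc, rfl⟩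

theorem Sg.ne (hs : Sg Om s) (h : WM Om) : s ≠ 1 := by
  obtain ⟨z, u, hz, hu, hc, rfl⟩ := hs
  intro h1
  have h2 : z = u := by rw [eq_inv_of_mul_eq_one_left h1, hu.inv h]
  exact hc.1 (by rw [h2])

theorem Sg.sq (hs : Sg Om s) (h : WM Om) : s * s = 1 := by
  obtain ⟨z, u, hz, hu, hc, rfl⟩ := hs
  have h1 := cp_comm h hz hu hc
  calc z * u * (z * u) = z * (u * z) * u := by group
    _ = z * (z * u) * u := by rw [h1]
    _ = (z * z) * (u * u) := by group
    _ = 1 := by rw [hz.z2 h, hu.z2 h, one_mul]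

/-- **in case (70) the chart has 8 points** -/
theorem Lk70.out.{v} {G : Type v} [Group G] [Finite G] {Om : Set (Subgroup G)} {s : G} (lk : Lk70 Om s) (h : WM Om)
    (l0 : L0 Om) (an : ANt Om s) (hs : Sg Om s) : ∃ e ε, P70 Om s e ε := by
  obtain ⟨n, hn, e, c, gen⟩ := lk
  have nil : NilS Om (ZS Om s) := nilS_ZS' h l0 an
  obtain ⟨ε, E⟩ := c.exists_eps (by omega) nil h gen
  have hne := hs.ne h
  obtain ⟨z, u, hz, hu, hc, hzu⟩ := hs.mem h
  obtain ⟨i, j, k, l, hd, h1⟩ := gen z hz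
  obtain ⟨i', j', k', l', hd', h1'⟩ := gen u hu
  have hsE : s = ε (ind (symmDiff {i, j, k, l} {i', j', k', l'})) := by
    rw [← ind_add, ← ind_four hd, ← ind_four hd', E.add, ← E.bl, ← E.bl, hzu, h1, h1']
  obtain ⟨T, hT⟩ : ∃ T : Finset (Fin n), T = symmDiff {i, j, k, l} {i', j', k', l'} := ⟨_, rfl⟩
  rw [← hT] at hsE
  have hev : ∑ p, ind T p = 0 := by
    rw [hT, ← ind_add]
    simp only [Pi.add_apply, Finset.sum_add_distrib, sum_ind, card_four hd, card_four hd']
    decide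
  have h2 := E.const hn hev fun i j k l hd h3 => by
    rw [← hsE] at h3
    have h4 := c.mem i j k l hd
    exact (Out.not_inn ⟨h3.1, Or.inl h3⟩ h h4.1) (Inn.of_CX h4.2)
  rcases h2 with h2 | h2
  · exfalso
    rw [h2, E.zero] at hsE
    exact hne hsE
  have h3 : T = Finset.univ := by
    apply ind_inj
    rw [h2]
    funext p
    show 1 = ind Finset.univ p
    simp [ind]
  have hn8 : n = 8 := by
    have h5 : ∀ p, p ∈ ({i, j, k, l} : Finset (Fin n)) ↔ p ∉ ({i', j', k', l'} : Finset (Fin n)) := by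
      intro p
      have h6 : p ∈ T := by rw [h3]; exact Finset.mem_univ p
      rw [hT, Finset.mem_symmDiff] at h6
      tauto
    have h6 : ({i, j, k, l} : Finset (Fin n)) = ({i', j', k', l'} : Finset (Fin n))ᶜ := by
      ext p; rw [Finset.mem_compl]; exact h5 p
    have h7 := card_four hd
    rw [h6, Finset.card_compl, card_four hd', Fintype.card_fin] at h7
    omega
  subst hn8
  refine ⟨e, ε, c, gen, E, ?_, hne, nil⟩
  rw [hsE, h2]

namespace P70

variable {e : Fin 8 → Fin 8 → G} {ε : (Fin 8 → ZMod 2) → G} {v v' : Fin 8 → ZMod 2} {i j k l : Fin 8}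
  {S T : Finset (Fin 8)}

theorem sum_one : ∑ p, (1 : Fin 8 → ZMod 2) p = 0 := by decide

theorem inj (P : P70 Om s e ε) (h : WM Om) (hv : ∑ p, v p = 0) (hv' : ∑ p, v' p = 0) (h1 : ε v = ε v') : v = v' := by
  have h2 : ε (v + v') = 1 := by rw [P.E.add, h1, P.E.sq]
  rcases P.E.ker P.c P.nil h (by norm_num) (by simp only [Pi.add_apply, Finset.sum_add_distrib, hv, hv', add_zero]) h2
    with h3 | h3
  · have h4 : v + v' + v' = v' := by rw [h3, zero_add]
    rwa [add_assoc, vec_two, add_zero] at h4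
  · rw [h3, P.one] at h2
    exact absurd h2 P.ne

theorem mem_of_card (P : P70 Om s e ε) (h : S.card = 4) : ε (ind S) ∈ ZS Om s := by
  obtain ⟨i, j, k, l, hd, rfl⟩ := exists_four h
  rw [← ind_four hd, ← P.E.bl]
  exact P.c.mem i j k l hd

theorem exists_of_mem (P : P70 Om s e ε) (hb : b ∈ ZS Om s) : ∃ S : Finset (Fin 8), S.card = 4 ∧ b = ε (ind S) := by
  obtain ⟨i, j, k, l, hd, rfl⟩ := P.gen b hb
  exact ⟨_, card_four hd, by rw [P.E.bl, ind_four hd]⟩

theorem mem_iff (P : P70 Om s e ε) (h : WM Om) (hS : ∑ p, ind S p = 0) : ε (ind S) ∈ ZS Om s ↔ S.card = 4 := by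
  refine ⟨fun h1 => ?_, P.mem_of_card⟩
  obtain ⟨T, hT, h2⟩ := P.exists_of_mem h1
  have hev : ∑ p, ind T p = 0 := by rw [sum_ind, hT]; decide
  rw [ind_inj (P.inj h hS hev h2), hT]

theorem ncard (P : P70 Om s e ε) (h : WM Om) (Q : Finset (Fin 8) → Prop) [DecidablePred Q] :
    {b | ∃ S : Finset (Fin 8), S.card = 4 ∧ Q S ∧ b = ε (ind S)}.ncard =
      ((Finset.powersetCard 4 (Finset.univ : Finset (Fin 8))).filter Q).card := by
  have h1 : {b | ∃ S : Finset (Fin 8), S.card = 4 ∧ Q S ∧ b = ε (ind S)} =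
      (fun S => ε (ind S)) '' (((Finset.powersetCard 4 (Finset.univ : Finset (Fin 8))).filter Q : Finset _) :
        Set (Finset (Fin 8))) := by
    ext b
    simp only [Set.mem_ofPred_eq, Set.mem_image, SetLike.mem_coe, Finset.mem_filter, Finset.mem_powersetCard,
      Finset.subset_univ, true_and]
    constructor
    · rintro ⟨S, hS, hQ, rfl⟩; exact ⟨S, ⟨hS, hQ⟩, rfl⟩
    · rintro ⟨S, ⟨hS, hQ⟩, rfl⟩; exact ⟨S, hS, hQ, rfl⟩
  rw [h1, Set.InjOn.ncard_image, Set.ncard_coe_finset]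
  intro S hS T hT h2
  simp only [SetLike.mem_coe, Finset.mem_filter, Finset.mem_powersetCard, Finset.subset_univ, true_and] at hS hT
  refine ind_inj (P.inj h ?_ ?_ h2)
  · rw [sum_ind, hS.1]; decide
  · rw [sum_ind, hT.1]; decide

theorem card (P : P70 Om s e ε) (h : WM Om) : (ZS Om s).ncard = 70 := by
  have h1 := P.ncard h (fun _ => True)
  have h2 : {b | ∃ S : Finset (Fin 8), S.card = 4 ∧ True ∧ b = ε (ind S)} = ZS Om s := by
    ext b
    constructor
    · rintro ⟨S, hS, -, rfl⟩; exact P.mem_of_card hS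
    · intro hb
      obtain ⟨S, hS, h3⟩ := P.exists_of_mem hb
      exact ⟨S, hS, trivial, h3⟩
  rw [h2] at h1
  rw [h1, Finset.filter_true_of_mem (fun _ _ => trivial), Finset.card_powersetCard, Finset.card_univ, Fintype.card_fin]
  decide

/-- complements -/
theorem bs (P : P70 Om s e ε) (hb : b ∈ ZS Om s) : b * s ∈ ZS Om s := by
  obtain ⟨S, hS, rfl⟩ := P.exists_of_mem hb
  have h1 : ε (ind S) * s = ε (ind Sᶜ) := by
    rw [← ind_compl, add_comm, P.E.add, P.one]
  rw [h1]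
  apply P.mem_of_card
  rw [Finset.card_compl, Fintype.card_fin, hS]

/-- the elements of `N_s` -/
theorem cases (P : P70 Om s e ε) (hx : x ∈ NZ Om s) : x = 1 ∨ x = s ∨ x ∈ ZS Om s ∨
    ∃ i j : Fin 8, i ≠ j ∧ (x = e i j ∨ x = s * e i j) := by
  obtain ⟨v, hv, rfl⟩ := P.E.surj x hx
  obtain ⟨S, rfl⟩ := exists_ind v
  have h1 := even_card hv
  have h2 : S.card ≤ 8 := by
    have := Finset.card_le_univ S
    rwa [Fintype.card_fin] at this
  have h3 : S.card = 0 ∨ S.card = 2 ∨ S.card = 4 ∨ S.card = 6 ∨ S.card = 8 := by omega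
  rcases h3 with h3 | h3 | h3 | h3 | h3
  · left
    rw [Finset.card_eq_zero.1 h3]
    have h4 : ind (∅ : Finset (Fin 8)) = 0 := by funext p; simp [ind]
    rw [h4, P.E.zero]
  · right; right; right
    obtain ⟨i, j, hij, rfl⟩ := Finset.card_eq_two.1 h3
    exact ⟨i, j, hij, Or.inl (by rw [P.E.pt, ind_pair hij])⟩
  · right; right; left
    exact P.mem_of_card h3
  · right; right; right
    have h4 : Sᶜ.card = 2 := by rw [Finset.card_compl, Fintype.card_fin, h3]
    obtain ⟨i, j, hij, h5⟩ := Finset.card_eq_two.1 h4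
    refine ⟨i, j, hij, Or.inr ?_⟩
    rw [P.E.pt, ind_pair hij, ← P.one, ← P.E.add, ← h5, ind_compl, compl_compl]
  · right; left
    have h4 : S = Finset.univ := by
      rw [← Finset.card_eq_iff_eq_univ, h3, Fintype.card_fin]
    rw [h4, ← P.one]
    congr 1
    funext p
    simp [ind]

/-- `e i j` and `s e i j` centralise the members over some `b ∈ Z(s)` -/
theorem cent (P : P70 Om s e ε) (h : WM Om) (hij : i ≠ j) : ∃ b ∈ ZS Om s, ∃ K, Mem Om b K ∧
    (∀ k ∈ K, e i j * k = k * e i j) ∧ ∀ k ∈ K, (s * e i j) * k = k * (s * e i j) := by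
  have h1 : 4 ≤ (({i, j} : Finset (Fin 8))ᶜ).card := by
    rw [Finset.card_compl, Finset.card_pair hij, Fintype.card_fin]; norm_num
  obtain ⟨T, hT, hT4⟩ := Finset.exists_subset_card_eq h1
  obtain ⟨p, q, k, l, hd, rfl⟩ := exists_four hT4
  have hne : ∀ x ∈ ({p, q, k, l} : Finset (Fin 8)), i ≠ x ∧ j ≠ x := by
    intro x hx
    have h2 := hT hx
    rw [Finset.mem_compl, Finset.mem_insert, Finset.mem_singleton] at h2
    push Not at h2
    exact ⟨h2.1.symm, h2.2.symm⟩
  have n1 := hne p (by simp)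
  have n2 := hne q (by simp)
  have n3 := hne k (by simp)
  have n4 := hne l (by simp)
  obtain ⟨K, hK, h2⟩ := P.c.pair_comm (by norm_num) P.nil h hd ⟨n1.1, n2.1, n3.1, n4.1⟩ ⟨n1.2, n2.2, n3.2, n4.2⟩
  refine ⟨_, P.c.mem p q k l hd, K, hK, h2, fun g hg => ?_⟩
  have h3 := mem_CX.1 (P.c.mem p q k l hd).2 K hK g hg
  rw [mul_assoc, h2 g hg, ← mul_assoc, h3, mul_assoc]

/-- 30 elements of `Z(s)` are not moved into `Z(s)` by `q` -/
theorem odd' (P : P70 Om s e ε) (h : WM Om) (hq : q ∈ NZ Om s) (h1 : q ≠ 1) (h2 : q ≠ s) (h3 : ¬ InZ Om q) :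
    {b | b ∈ ZS Om s ∧ b * q ∉ ZS Om s}.ncard = 30 := by
  obtain ⟨i, j, hij, hq'⟩ : ∃ i j : Fin 8, i ≠ j ∧ (q = e i j ∨ q = s * e i j) := by
    rcases P.cases hq with h4 | h4 | h4 | h4
    · exact absurd h4 h1
    · exact absurd h4 h2
    · exact absurd h4.1 h3
    · exact h4
  rw [← count30 i j hij, ← P.ncard h]
  congr 1
  have key : ∀ S : Finset (Fin 8), S.card = 4 → (ε (ind S) * q ∈ ZS Om s ↔ (symmDiff S {i, j}).card = 4) := by
    intro S hS
    have e1 : ε (ind S) * e i j = ε (ind (symmDiff S {i, j})) := by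
      rw [P.E.pt, ind_pair hij, ← P.E.add, ind_add]
    have e2 : ∑ p, ind (symmDiff S {i, j}) p = 0 := by
      rw [← ind_add]
      simp only [Pi.add_apply, Finset.sum_add_distrib, sum_ind, hS, Finset.card_pair hij]
      decide
    rcases hq' with h4 | h4
    · rw [h4, e1, P.mem_iff h e2]
    · have e3 : ε (ind S) * q = ε (ind (symmDiff S {i, j})) * s := by
        have csB : s * e i j = e i j * s := by
          rw [← P.one, P.E.pt, ← P.E.add, ← P.E.add, add_comm]
        rw [h4, csB, ← mul_assoc, e1]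
      rw [e3]
      constructor
      · intro h5
        have h6 := P.bs h5
        have h7 : s * s = 1 := by rw [← P.one, P.E.sq]
        rw [mul_assoc, h7, mul_one] at h6
        exact (P.mem_iff h e2).1 h6
      · intro h5
        exact P.bs (P.mem_of_card h5)
  ext b
  constructor
  · rintro ⟨hb, hbq⟩
    obtain ⟨S, hS, rfl⟩ := P.exists_of_mem hb
    exact ⟨S, hS, fun h4 => hbq ((key S hS).2 h4), rfl⟩
  · rintro ⟨S, hS, hQ, rfl⟩
    exact ⟨P.mem_of_card hS, fun h4 => hQ ((key S hS).1 h4)⟩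

end P70

/-- **the world LINKED, `|a0(z)| = 1`** -/
theorem LX.of.{v} {G : Type v} [Group G] [Finite G] {Om : Set (Subgroup G)} (h : WM Om) (l0 : L0 Om)
    (an : ∀ s, Sg Om s → ANt Om s)
    (one : ∀ z u v, InZ Om z → InZ Om u → InZ Om v → CP Om z u → CP Om z v → u = v)
    (ex : ∀ z, InZ Om z → ∃ u, InZ Om u ∧ CP Om z u)
    (lk : ∀ s, Sg Om s → Lk14 Om s ∨ Lk70 Om s) : LX Om := by
  have cp_bs : ∀ s, Sg Om s → ∀ b ∈ ZS Om s, InZ Om (b * s) → CP Om b (b * s) := by
    intro s hs b hb hbs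
    rcases (cen_iff h hb.1 hbs).1 (mul_mem (z_mem_CX h) hb.2) with h1 | h1
    · exact absurd (mul_eq_left.1 h1.symm) (hs.ne h)
    · exact h1
  have sZ : ∀ s, Sg Om s → ¬ InZ Om s := by
    intro s hs hsZ
    obtain ⟨z, u, hz, hu, hc, hzu⟩ := hs.mem h
    rcases (cen_iff h hz.1 hsZ).1 hz.2 with h1 | h1
    · rw [h1] at hzu
      exact hu.1.z1 h (mul_eq_left.1 hzu.symm)
    · have h2 := one z s u hz.1 hsZ hu.1 h1 hc
      rw [h2] at hzu
      exact hz.1.z1 h (mul_eq_right.1 hzu.symm)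
  refine ⟨h, l0, an, one, ex, ?_, ?_, ?_, ?_⟩
  · intro s hs b hb
    have h1 : InZ Om (b * s) := by
      rcases lk s hs with h1 | h1
      · exact h1.2.1 b hb
      · obtain ⟨e, ε, P⟩ := h1.out h l0 (an s hs) hs
        exact (P.bs hb).1
    exact ⟨h1, cp_bs s hs b hb h1⟩
  · intro s hs
    rcases lk s hs with h1 | h1
    · rw [h1.1]
    · obtain ⟨e, ε, P⟩ := h1.out h l0 (an s hs) hs
      rw [P.card h]
  · intro s hs x hx hxZ
    rcases lk s hs with h1 | h1
    · rcases h1.2.2 x hx with h2 | h2 | h2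
      · exact absurd h2 (hxZ.z1 h)
      · rw [h2] at hxZ; exact absurd hxZ (sZ s hs)
      · exact h2
    · obtain ⟨e, ε, P⟩ := h1.out h l0 (an s hs) hs
      rcases P.cases hx with h2 | h2 | h2 | ⟨i, j, hij, h2⟩
      · exact absurd h2 (hxZ.z1 h)
      · rw [h2] at hxZ; exact absurd hxZ (sZ s hs)
      · exact h2
      · obtain ⟨b, hb, K, hK, c1, c2⟩ := P.cent h hij
        by_cases hbx : b = x
        · rw [← hbx]; exact hb
        have h3 : CP Om b x := by
          refine cp_of_cen h hK hxZ hbx ?_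
          rcases h2 with h2 | h2
          · rw [h2]; exact c1
          · rw [h2]; exact c2
        have h4 := P.bs hb
        have h5 := one b x (b * s) hb.1 hxZ h4.1 h3 (cp_bs s hs b hb h4.1)
        rw [h5]; exact h4
  · intro s hs q hq h1 h2 h3
    rcases lk s hs with h4 | h4
    · exfalso
      rcases h4.2.2 q hq with h5 | h5 | h5
      · exact h1 h5
      · exact h2 h5
      · exact h3 h5.1
    · obtain ⟨e, ε, P⟩ := h4.out h l0 (an s hs) hs
      rw [P.odd' h hq h1 h2 h3]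

end Fin

end Cfsg.Agent.Cit.Nil.RTwoM.Two
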