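import Cfsg.Agent.Cit.Nil.RTwoM.ANStar
import Cfsg.Agent.Cit.Nil.RTwoM.NilZ
import Cfsg.Agent.Cit.Nil.RTwoM.EndX
import Cfsg.Agent.Cit.Nil.RTwoM.TFour

/-!
# S1309, (6b), (C3), `r = 2`, `m = 2`, `LAMBDA0` (helper599, CIT-6b-r2-m2): the world, types of free elements

* `TW Om` : the world; `PR Om z u` : `(z, u)` a C-pair; `Tm z u t` : `t ∈ T# = {z, u, z u}`;
* `TW.ant`, `PR.mem_ZS`, `PR.mem_NZ`; `TW.no_three` : no three pairwise C elements; `TW.exists_pr`, `TW.pr_cj`;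
* `PC z u x` : `x ∈ C(T)`; `Free Om z u x` : no `t ∈ T#` centralises `R_x`;
* `T1` : `z, u` of type `f` at `x`: `x ∈ N_s`; `T2` : the type `{p, p', f}`; `T3`, `T3s` : the types `(Ip)`, `(ppI)`;
* **`types`** : the list of the types of a free `x ∈ Z ∩ C(T)`.
-/

set_option autoImplicit false
set_option linter.style.haveILetI false
set_option linter.unusedSectionVars false

namespace Cfsg.Agent.Cit.Nil.RTwoM.Two

open Subgroup Cfsg Cfsg.Agent.Cit

open RTwo (Q3)
open RG (WR CP Ov InO Tr)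
open RI (CS)

variable {G : Type*} [Group G] {Om : Set (Subgroup G)} {K L M : Subgroup G}
  {a b c d e i j p q r s t t₁ t₂ t₃ u v w x y z z' u' g k n : G}

/-- the world `m = 2` -/
structure TW (Om : Set (Subgroup G)) : Prop where
  w : WM Om
  l0 : L0 Om
  an : ANT Om
  ans : ANS Om
  one : OneCls Om
  c3 : C3E Om
  two : ∀ S : Sylow 2 G, (CS Om (S : Subgroup G)).ncard = 2

/-- `(z, u)` is a C-pair -/
structure PR (Om : Set (Subgroup G)) (z u : G) : Prop where
  hz : InZ Om z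
  hu : InZ Om u
  cp : CP Om z u

/-- `t ∈ T#`, `T = ⟨z, u⟩` -/
def Tm (z u t : G) : Prop := t = z ∨ t = u ∨ t = z * u

/-- `x` centralises `T` -/
def PC (z u x : G) : Prop := x * z = z * x ∧ x * u = u * x

/-- `T` acts faithfully on `R_x` -/
def Free (Om : Set (Subgroup G)) (z u x : G) : Prop := ∀ t, Tm z u t → t ∉ CX Om x

theorem Tm.fst : Tm z u z := Or.inl rfl
theorem Tm.snd : Tm z u u := Or.inr (Or.inl rfl)
theorem Tm.prd : Tm z u (z * u) := Or.inr (Or.inr rfl)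

theorem PR.symm (p : PR Om z u) : PR Om u z := ⟨p.hu, p.hz, p.cp.symm⟩

theorem PC.comm (hx : PC z u x) (ht : Tm z u t) : x * t = t * x := by
  rcases ht with rfl | rfl | rfl
  · exact hx.1
  · exact hx.2
  · rw [← mul_assoc, hx.1, mul_assoc, hx.2, mul_assoc]

theorem PC.symm (hx : PC z u x) : PC u z x := ⟨hx.2, hx.1⟩

section Fin

variable [Finite G]

theorem PR.comm (p : PR Om z u) (h : WM Om) : z * u = u * z := cp_comm h p.hz p.hu p.cp

theorem Tm.symm (ht : Tm z u t) (p : PR Om z u) (h : WM Om) : Tm u z t := by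
  rcases ht with rfl | rfl | rfl
  · exact Tm.snd
  · exact Tm.fst
  · rw [p.comm h]; exact Tm.prd

theorem Free.symm (hf : Free Om z u x) (p : PR Om z u) (h : WM Om) : Free Om u z x := fun t ht =>
  hf t (ht.symm p.symm h)

theorem Tm.comm (ht : Tm z u t) (ht' : Tm z u s) (p : PR Om z u) (h : WM Om) : t * s = s * t := by
  have hzu := p.comm h
  have h1 : z * s = s * z := by
    rcases ht' with rfl | rfl | rfl
    · rfl
    · exact hzu
    · rw [mul_assoc, hzu]
  have h2 : u * s = s * u := by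
    rcases ht' with rfl | rfl | rfl
    · exact hzu.symm
    · rfl
    · rw [← mul_assoc, ← hzu]
  rcases ht with rfl | rfl | rfl
  · exact h1
  · exact h2
  · rw [mul_assoc, h2, ← mul_assoc, h1, mul_assoc]

theorem Tm.sq (ht : Tm z u t) (p : PR Om z u) (h : WM Om) : t * t = 1 := by
  have hzu := p.comm h
  rcases ht with rfl | rfl | rfl
  · exact p.hz.z2 h
  · exact p.hu.z2 h
  · calc z * u * (z * u) = z * (u * z) * u := by group
      _ = (z * z) * (u * u) := by rw [← hzu]; group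
      _ = 1 := by rw [p.hz.z2 h, p.hu.z2 h, one_mul]

theorem Tm.ne_one (ht : Tm z u t) (p : PR Om z u) (h : WM Om) : t ≠ 1 := by
  rcases ht with rfl | rfl | rfl
  · exact p.hz.z1 h
  · exact p.hu.z1 h
  · intro h1
    apply p.cp.1
    rw [eq_inv_of_mul_eq_one_left h1, p.hu.inv h]

/-- `z, u ∈ Z(t)` -/
theorem PR.mem_ZS (p : PR Om z u) (h : WM Om) (ht : Tm z u t) : z ∈ ZS Om t ∧ u ∈ ZS Om t := by
  have h1 : z ∈ CX Om z := z_mem_CX h
  have h2 : u ∈ CX Om u := z_mem_CX h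
  have h3 : u ∈ CX Om z := cp_cx h p.hu p.cp
  have h4 : z ∈ CX Om u := cp_cx h p.hz p.cp.symm
  rcases ht with rfl | rfl | rfl
  · exact ⟨⟨p.hz, h1⟩, ⟨p.hu, h4⟩⟩
  · exact ⟨⟨p.hz, h3⟩, ⟨p.hu, h2⟩⟩
  · exact ⟨⟨p.hz, Subgroup.mul_mem _ h1 h3⟩, ⟨p.hu, Subgroup.mul_mem _ h4 h2⟩⟩

/-- `T ≤ N_t` -/
theorem PR.mem_NZ (p : PR Om z u) (h : WM Om) (ht : Tm z u t) (hs : Tm z u s) : s ∈ NZ Om t := by
  have h1 := p.mem_ZS h ht
  have h2 : z ∈ NZ Om t := RTwoM.mem_NZ h1.1
  have h3 : u ∈ NZ Om t := RTwoM.mem_NZ h1.2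
  rcases hs with rfl | rfl | rfl
  · exact h2
  · exact h3
  · exact Subgroup.mul_mem _ h2 h3

namespace TW

variable (W : TW Om)

include W

theorem oc : OneCl Om := W.one.oneCl W.w

/-- `AN(t)`, `t ∈ T#` -/
theorem ant (p : PR Om z u) (ht : Tm z u t) : ANt Om t := by
  obtain ⟨S, hz, hu⟩ := exists_sylow_of_cp W.w p.hz p.hu p.cp
  refine W.an S t ?_ (ht.ne_one p W.w)
  rcases ht with rfl | rfl | rfl
  · exact CS.mem_TT hz
  · exact CS.mem_TT hu
  · exact Subgroup.mul_mem _ (CS.mem_TT hz) (CS.mem_TT hu)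

/-- every `z ∈ Z` has a C-partner -/
theorem exists_pr (hz : InZ Om z) : ∃ u, PR Om z u := by
  obtain ⟨S, hzS⟩ := exists_sylow W.w hz
  by_contra hcon
  push Not at hcon
  have h5 : CS Om (S : Subgroup G) ⊆ {z} := by
    intro v hv
    by_contra hne
    exact hcon v ⟨hz, CS.inZ hv, CS.cp hzS W.w S.2 hv fun h6 => hne h6.symm⟩
  have h6 := Set.ncard_le_ncard h5 (Set.toFinite _)
  rw [Set.ncard_singleton] at h6
  have := W.two S
  omega

theorem CS_eq (p : PR Om z u) (S : Sylow 2 G) (hz : z ∈ CS Om (S : Subgroup G)) (hu : u ∈ CS Om (S : Subgroup G)) :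
    CS Om (S : Subgroup G) = {z, u} := by
  symm
  refine Set.eq_of_subset_of_ncard_le ?_ ?_ (Set.toFinite _)
  · rintro v (rfl | rfl)
    · exact hz
    · exact hu
  · rw [W.two S, Set.ncard_pair p.cp.1]

/-- no three pairwise C elements -/
theorem no_three (hz : InZ Om z) (hu : InZ Om u) (hv : InZ Om v) (hzu : CP Om z u) (hzv : CP Om z v)
    (huv : CP Om u v) : False := by
  have p : PR Om z u := ⟨hz, hu, hzu⟩
  obtain ⟨S, hzS, huS⟩ := exists_sylow_of_cp W.w hz hu hzu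
  have h1 := W.CS_eq p S hzS huS
  have h2 : v ∈ CS Om (S : Subgroup G) := mem_CS_of_clique W.w S hv fun w hw => by
    rw [h1] at hw
    rcases hw with rfl | rfl
    · exact Or.inr hzv
    · exact Or.inr huv
  rw [h1] at h2
  rcases h2 with h2 | h2
  · exact hzv.1 h2.symm
  · exact huv.1 h2.symm

/-- all C-pairs are conjugate -/
theorem pr_cj (p : PR Om z u) (p' : PR Om z' u') :
    ∃ g, (g * z * g⁻¹ = z' ∧ g * u * g⁻¹ = u') ∨ (g * z * g⁻¹ = u' ∧ g * u * g⁻¹ = z') := by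
  obtain ⟨S, hz, hu⟩ := exists_sylow_of_cp W.w p.hz p.hu p.cp
  obtain ⟨S', hz', hu'⟩ := exists_sylow_of_cp W.w p'.hz p'.hu p'.cp
  obtain ⟨g, hg⟩ := sylow_cj S S'
  have h1 := cj_CS W.w g hz
  have h2 := cj_CS W.w g hu
  rw [← hg, W.CS_eq p' S' hz' hu'] at h1 h2
  have h3 : g * z * g⁻¹ ≠ g * u * g⁻¹ := fun h4 => p.cp.1 (mul_left_cancel (mul_right_cancel h4))
  refine ⟨g, ?_⟩
  rcases h1 with h1 | h1 <;> rcases h2 with h2 | h2
  · exact absurd (h1.trans h2.symm) h3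
  · exact Or.inl ⟨h1, h2⟩
  · exact Or.inr ⟨h1, h2⟩
  · exact absurd (h1.trans h2.symm) h3

/-- the product of a C-pair is not in `Z` -/
theorem mul_not_inZ (p : PR Om z u) : ¬ InZ Om (z * u) := by
  intro hm
  have h1 := p.mem_ZS W.w Tm.prd
  have h2 : CP Om z (z * u) := by
    rcases (cen_iff W.w p.hz hm).1 h1.1.2 with h3 | h3
    · exact absurd (mul_eq_left.1 h3.symm) (p.hu.z1 W.w)
    · exact h3
  have h3 : CP Om u (z * u) := by
    rcases (cen_iff W.w p.hu hm).1 h1.2.2 with h3 | h3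
    · exact absurd (mul_eq_right.1 h3.symm) (p.hz.z1 W.w)
    · exact h3
  exact W.no_three p.hz p.hu hm p.cp h2 h3

end TW

/-- a free `x` is neither in `T` nor C to an element of `T` -/
theorem Free.ne (hf : Free Om z u x) (p : PR Om z u) (h : WM Om) : x ≠ z ∧ x ≠ u ∧ ¬ CP Om x z ∧ ¬ CP Om x u := by
  refine ⟨?_, ?_, fun h3 => hf z Tm.fst (cp_cx h p.hz h3), fun h3 => hf u Tm.snd (cp_cx h p.hu h3)⟩
  · rintro rfl
    exact hf x Tm.fst (z_mem_CX h)
  · rintro rfl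
    exact hf x Tm.snd (z_mem_CX h)


/-! ### Swaps -/

/-- `[p, k] = x · k (p k p⁻¹)` -/
theorem comm_eq_qq (hs : Swp Om x p) (h : WM Om) (hK : Mem Om x K) (hk : k ∈ K) (hkk : k * k = x) :
    p * k * p⁻¹ * k⁻¹ = x * qq p k := by
  have h1 := hs.cm h hK hk hk
  have h2 : k⁻¹ = x * k := hK.inv_eq h hk hkk
  rw [h2, qq]
  have h3 : p * k * p⁻¹ * x = x * (p * k * p⁻¹) := RZ_le_centralizer h ((hs.mem h hK).le_RZ (conj_mem_cj hk))
  calc p * k * p⁻¹ * (x * k) = (p * k * p⁻¹ * x) * k := by group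
    _ = x * ((p * k * p⁻¹) * k) := by rw [h3]; group
    _ = x * (k * (p * k * p⁻¹)) := by rw [h1]

/-- an element commuting with the swap `p` and acting on `K` as `i` -/
theorem as_all (ht : As K t i) (hpt : p * t = t * p) : As (cj p K) t (p * i * p⁻¹) := ht.conj_comm hpt

/-- elements acting in the same way on a member and commuting with a swap: they act in the same way on `R_x` -/
theorem same_of_swp (hs : Swp Om x p) (h : WM Om) (hK : Mem Om x K) (ht : As K t i) (hr : As K r i)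
    (hpt : p * t = t * p) (hpr : p * r = r * p) : t * r⁻¹ ∈ CX Om x := by
  have h1 := as_all ht hpt
  have h2 := as_all hr hpr
  rw [mem_CX]
  intro M hM
  rcases hK.cases (hs.mem h hK) h (hs.ne hK) hM with rfl | rfl
  · have h3 := ht.mul hr.inv
    rw [mul_inv_cancel] at h3
    exact As.one_iff.1 h3
  · have h3 := h1.mul h2.inv
    rw [mul_inv_cancel] at h3
    exact As.one_iff.1 h3

end Fin

end Cfsg.Agent.Cit.Nil.RTwoM.Two
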