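import Cfsg.Agent.Cit.Nil.RTwoM.Two.TBase

/-!
# S1309, (6b), (C3), `r = 2`, `m = 2`, `LAMBDA0` (helper599, CIT-6b-r2-m2): (T1), (T2), (T3), TYPES

`(z, u)` a C-pair, `T# = {z, u, z u}`, `x ∈ Z ∩ C(T)`.

* `T1` : `z`, `u` of type `f` at `x`: `x ∈ N_s`, `s = z u`;
* `qq_mem_NZ`, **`T2`** : `t₁, t₂ ∈ T#` swaps at `x`, `t₁ t₂` of type `f`;
* `exists_i`, **`T3`** : `t` inner, `t'` a swap at `x`, `i ∈ K_x` acts on `K_x` as `t`, `q = [t', i]`; **`T3s`** : type `(ppI)`;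
* **`types`**.
-/

set_option autoImplicit false
set_option linter.style.haveILetI false
set_option linter.unusedSectionVars false

namespace Cfsg.Agent.Cit.Nil.RTwoM.Two

open Subgroup Cfsg Cfsg.Agent.Cit

open RTwo (Q3)
open RG (WR CP Ov InO Tr)
open RI (CS)

variable {G : Type*} [Group G] {Om : Set (Subgroup G)} {K L M : Subgroup G}
  {a b c d e i j p q r s t t' t₁ t₂ t₃ u v w x y z z' u' g k n : G}

section Fin

variable [Finite G]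

/-- **(T1)** -/
theorem T1 (W : TW Om) (p : PR Om z u) (hx : InZ Om x) (hz : Ff Om x z) (hu : Ff Om x u) :
    x ∈ NZ Om (z * u) := by
  have h := W.w
  obtain ⟨K, hK⟩ := hx
  obtain ⟨a, ha⟩ := hz.exists_tr h (p.hz.z2 h) hK
  obtain ⟨-, h2⟩ := tt_ff h W.l0 p.cp (W.ant p Tm.prd) p.hz p.hu hz hu hK ha
  have h3 := LJ h (p.mem_NZ h Tm.prd Tm.fst) hz.1 (hK.le_RZ ha.mem) h2.comm.symm
  have h4 := Tr.inv' ha hK h
  rw [h4, mul_inv_cancel_right] at h3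
  exact h3.1

/-- `t₁`, `t₂` commute, `t₂ ∈ N_{t₁}`, `t₁` a swap at `x`, `t₁ t₂` inverts the axis `i` of `K`: `i i^{t₁} ∈ N_{t₁}` -/
theorem qq_mem_NZ (h : WM Om) (hK : Mem Om x K) (h11 : t₁ * t₁ = 1) (h12 : t₁ * t₂ = t₂ * t₁)
    (hn : t₂ ∈ NZ Om t₁) (h2x : t₂ * x = x * t₂) (hs : Swp Om x t₁) (hcK : cj (t₁ * t₂) K = K)
    (ha : Tr (t₁ * t₂) K i) : qq t₁ i ∈ NZ Om t₁ := by
  have hii := Tr.sq' ha hK
  obtain ⟨b, hb, hbb, hba, hba'⟩ := hK.exists_off h ha.mem hii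
  have hcom := ha.com b hb (by rw [hbb, hK.2]) hba hba'
  obtain ⟨t₃, ht₃⟩ : ∃ t₃, t₃ = t₁ * t₂ := ⟨_, rfl⟩
  rw [← ht₃] at hcom hcK
  have htb : t₃ * b * t₃⁻¹ ∈ K := by
    have := conj_mem_cj (g := t₃) hb
    rwa [hcK] at this
  have h13 : t₁ * t₃ = t₃ * t₁ := by rw [ht₃, mul_assoc t₁ t₂ t₁, ← h12]
  have ht2 : t₂ = t₃ * t₁ := by
    rw [← h13, ht₃, ← mul_assoc, h11, one_mul]
  have hq := qq_comm hs h h11 hK hb
  have h1 := (LJ h hn h2x (qq_mem hs h hK hb) hq.symm).1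
  have h2 : t₂ * qq t₁ b * t₂⁻¹ = qq t₁ (t₃ * b * t₃⁻¹) := by
    have h3 : t₂ * qq t₁ b * t₂⁻¹ = t₃ * qq t₁ b * t₃⁻¹ := by
      rw [ht2]
      calc t₃ * t₁ * qq t₁ b * (t₃ * t₁)⁻¹ = t₃ * (t₁ * qq t₁ b) * t₁⁻¹ * t₃⁻¹ := by group
        _ = t₃ * (qq t₁ b * t₁) * t₁⁻¹ * t₃⁻¹ := by rw [hq]
        _ = _ := by group
    rw [h3, qq, qq]
    calc t₃ * (b * (t₁ * b * t₁⁻¹)) * t₃⁻¹ = (t₃ * b * t₃⁻¹) * ((t₃ * t₁) * b * (t₃ * t₁)⁻¹) := by group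
      _ = (t₃ * b * t₃⁻¹) * ((t₁ * t₃) * b * (t₁ * t₃)⁻¹) := by rw [h13]
      _ = _ := by group
  have h3 : t₂ * qq t₁ b * t₂⁻¹ * (qq t₁ b)⁻¹ = qq t₁ (t₃ * b * t₃⁻¹ * b⁻¹) := by
    rw [h2, mul_inv_eq_iff_eq_mul, ← qq_mul hs h hK (mul_mem htb (inv_mem hb)) hb, inv_mul_cancel_right]
  rw [h3] at h1
  rcases hcom with h4 | h4
  · rwa [h4] at h1
  · have h5 : qq t₁ i⁻¹ = qq t₁ i := by
      rw [hK.inv_eq h ha.mem hii, qq_mul hs h hK (hK.zmem h) ha.mem, qq_z hs hK.inZ h, one_mul]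
    rwa [h4, h5] at h1

theorem qq_ne (hs : Swp Om x p) (h : WM Om) (hK : Mem Om x K) (hi : i ∈ K) (hii : i * i = x) :
    qq p i ≠ 1 ∧ qq p i ≠ x := by
  have hx1 := hK.inZ.z1 h
  have h1 : i ≠ 1 := fun h2 => hx1 (by rw [← hii, h2, one_mul])
  have h2 : i ≠ x := fun h3 => hx1 (by rw [← hii, h3, hK.inZ.z2 h])
  refine ⟨fun h3 => ?_, fun h3 => ?_⟩
  · rcases qq_eq_one hs h hK hi h3 with h4 | h4
    · exact h1 h4
    · exact h2 h4
  · have h4 := (hs.as_qq h hK hi).1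
    rw [h3] at h4
    rcases hK.as_center h h4 (hK.as_z h) with h5 | h5
    · exact h1 h5
    · exact h2 h5

/-- **(T2)**, with the axis `i` -/
theorem T2' (W : TW Om) (p : PR Om z u) (ht₁ : Tm z u t₁) (ht₂ : Tm z u t₂)
    (h1 : Swp Om x t₁) (h2 : Swp Om x t₂) (hK : Mem Om x K) (hc : cj (t₁ * t₂) K = K) (ha : Tr (t₁ * t₂) K i) :
    qq t₁ i ∈ NZ Om t₁ ∧ qq t₂ i ∈ NZ Om t₂ ∧ qq t₂ i = qq t₁ i * x := by
  have h := W.w
  have h12 := ht₁.comm ht₂ p h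
  have h11 := ht₁.sq p h
  refine ⟨qq_mem_NZ h hK h11 h12 (p.mem_NZ h ht₁ ht₂) h2.1 h1 hc ha,
    qq_mem_NZ h hK (ht₂.sq p h) h12.symm (p.mem_NZ h ht₂ ht₁) h1.1 h2 (by rwa [← h12]) (by rwa [← h12]), ?_⟩
  have h3 : t₂ * i * t₂⁻¹ = t₁ * (x * i) * t₁⁻¹ := by
    rw [← Tr.inv' ha hK h]
    have h4 : t₂ = t₁ * (t₁ * t₂) := by rw [← mul_assoc, h11, one_mul]
    conv_lhs => rw [h4]
    group
  rw [qq, qq, h3]
  have h5 : t₁ * (x * i) * t₁⁻¹ = x * (t₁ * i * t₁⁻¹) := by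
    calc t₁ * (x * i) * t₁⁻¹ = (t₁ * x) * i * t₁⁻¹ := by group
      _ = x * (t₁ * i * t₁⁻¹) := by rw [h1.1]; group
  rw [h5]
  have h6 : (t₁ * i * t₁⁻¹) * x = x * (t₁ * i * t₁⁻¹) :=
    RZ_le_centralizer h ((h1.mem h hK).le_RZ (conj_mem_cj ha.mem))
  calc i * (x * (t₁ * i * t₁⁻¹)) = i * ((t₁ * i * t₁⁻¹) * x) := by rw [h6]
    _ = _ := by group

/-- **(T2)** -/
theorem T2 (W : TW Om) (p : PR Om z u) (hxZ : InZ Om x) (ht₁ : Tm z u t₁) (ht₂ : Tm z u t₂)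
    (h1 : Swp Om x t₁) (h2 : Swp Om x t₂) (h3 : Ff Om x (t₁ * t₂)) :
    ∃ w ∈ RZ Om x, w * w = 1 ∧ w ≠ 1 ∧ w ≠ x ∧ w ∈ NZ Om t₁ ∧ w * x ∈ NZ Om t₂ := by
  have h := W.w
  obtain ⟨K, hK⟩ := hxZ
  have hsq : (t₁ * t₂) * (t₁ * t₂) = 1 := by
    calc (t₁ * t₂) * (t₁ * t₂) = t₁ * (t₂ * t₁) * t₂ := by group
      _ = (t₁ * t₁) * (t₂ * t₂) := by rw [← ht₁.comm ht₂ p h]; group
      _ = 1 := by rw [ht₁.sq p h, ht₂.sq p h, one_mul]
  obtain ⟨i, ha⟩ := h3.exists_tr h hsq hK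
  obtain ⟨h4, h5, h6⟩ := T2' W p ht₁ ht₂ h1 h2 hK (h3.2 K hK).1 ha
  obtain ⟨h7, h8⟩ := qq_ne h1 h hK ha.mem (Tr.sq' ha hK)
  exact ⟨qq t₁ i, qq_mem h1 h hK ha.mem, qq_sq h1 h hK ha.mem, h7, h8, h4, by rw [← h6]; exact h5⟩

/-- the element of order 4 of `K` which acts as `t` -/
theorem exists_i (h : WM Om) (hK : Mem Om x K) (hi : Inn Om x t) (h0 : t ∉ CX Om x) (hs : Swp Om x t')
    (hc : t' * t = t * t') : ∃ i, As K t i ∧ i * i = x := by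
  obtain ⟨i, hti⟩ := exists_as_of_inn h hK hi
  refine ⟨i, hti, ?_⟩
  rcases hK.sq_cases h hti.1 with h1 | h1 | h1
  · exfalso
    apply h0
    rw [h1] at hti
    have h2 := as_all hti hc
    rw [mul_one, mul_inv_cancel] at h2
    rw [mem_CX]
    intro M hM
    rcases hK.cases (hs.mem h hK) h (hs.ne hK) hM with rfl | rfl
    · exact As.one_iff.1 hti
    · exact As.one_iff.1 h2
  · exfalso
    apply h0
    have h3 : ∀ {M : Subgroup G}, Mem Om x M → As M t x → ∀ k ∈ M, t * k = k * t := by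
      intro M hM hM2 k hk
      have h4 := hM2.2 k hk
      rw [← hM.comm_z h hk, mul_inv_cancel_right, mul_inv_eq_iff_eq_mul] at h4
      exact h4
    rw [h1] at hti
    have h2 := as_all hti hc
    rw [hs.1, mul_inv_cancel_right] at h2
    rw [mem_CX]
    intro M hM
    rcases hK.cases (hs.mem h hK) h (hs.ne hK) hM with rfl | rfl
    · exact h3 hM hti
    · exact h3 hM h2
  · exact h1

/-- **(T3)** -/
theorem T3 (W : TW Om) (p : PR Om z u) (ht : Tm z u t) (ht' : Tm z u t') (hs : Swp Om x t') (hK : Mem Om x K)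
    (hi : As K t i) (hii : i * i = x) :
    t' * i * t'⁻¹ * i⁻¹ ∈ NZ Om t ∧ t' * i * t'⁻¹ * i⁻¹ ∈ RZ Om x ∧
      t' * i * t'⁻¹ * i⁻¹ = x * qq t' i ∧ i * t' * i⁻¹ = t' * (t' * i * t'⁻¹ * i⁻¹) ∧
      t * (t' * i * t'⁻¹ * i⁻¹) ∈ CX Om x := by
  have h := W.w
  have hiR : i ∈ RZ Om x := hK.le_RZ hi.1
  have h1 := LJ h (p.mem_NZ h ht ht') hs.1 hiR hi.comm.symm
  have h2 := comm_eq_qq hs h hK hi.1 hii
  have h3 : t' * (t' * i * t'⁻¹ * i⁻¹) = (t' * i * t'⁻¹ * i⁻¹) * t' :=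
    NZ_comm h W.l0 (W.ant p ht) (p.mem_NZ h ht ht') h1.1
  have h4 : (t' * i * t'⁻¹ * i⁻¹) * (t' * i * t'⁻¹ * i⁻¹) = 1 := NZ_sq h W.l0 (W.ant p ht) h1.1
  refine ⟨h1.1, h1.2, h2, ?_, ?_⟩
  · rw [h3]
    have h5 : (t' * i * t'⁻¹ * i⁻¹)⁻¹ = t' * i * t'⁻¹ * i⁻¹ := inv_eq_of_mul_eq_one_right h4
    calc i * t' * i⁻¹ = (t' * i * t'⁻¹ * i⁻¹)⁻¹ * t' := by group
      _ = _ := by rw [h5]
  · obtain ⟨q, hq⟩ : ∃ q, q = t' * i * t'⁻¹ * i⁻¹ := ⟨_, rfl⟩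
    rw [← hq] at h4 h2 ⊢
    have h5 : As K q i := by
      rw [h2]
      have h6 := (hK.as_z h).mul (hs.as_qq h hK hi.1).1
      rwa [one_mul] at h6
    have h7 : t' * q = q * t' := by
      rw [h2]
      have h8 := qq_comm hs h (ht'.sq p h) hK hi.1
      calc t' * (x * qq t' i) = (t' * x) * qq t' i := by group
        _ = x * (t' * qq t' i) := by rw [hs.1]; group
        _ = _ := by rw [h8]; group
    have h8 := same_of_swp hs h hK hi h5 (ht'.comm ht p h) h7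
    rwa [inv_eq_of_mul_eq_one_right h4] at h8

/-- **(T3)**, type `(ppI)` -/
theorem T3s (W : TW Om) (p : PR Om z u) (hz : Swp Om x z) (hu : Swp Om x u) (hK : Mem Om x K)
    (hi : Inn Om x (z * u)) (h0 : z * u ∉ CX Om x) :
    ∃ i q, As K (z * u) i ∧ i * i = x ∧ q ∈ NZ Om (z * u) ∧ q ∈ RZ Om x ∧ q = x * qq z i ∧ q = x * qq u i ∧
      q = z * i * z⁻¹ * i⁻¹ ∧ q = u * i * u⁻¹ * i⁻¹ ∧ i * z * i⁻¹ = z * q ∧ i * u * i⁻¹ = u * q ∧
      z * u * q ∈ CX Om x ∧ q * q = 1 ∧ q ≠ 1 ∧ q ≠ x := by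
  have h := W.w
  have hzu := p.comm h
  obtain ⟨i, hti, hii⟩ := exists_i h hK hi h0 hz (Tm.comm Tm.fst Tm.prd p h)
  obtain ⟨a1, a2, a3, a4, a5⟩ := T3 W p Tm.prd Tm.fst hz hK hti hii
  obtain ⟨b1, b2, b3, b4, b5⟩ := T3 W p Tm.prd Tm.snd hu hK hti hii
  have hc := hti.comm
  have huu := p.hu.z2 h
  have h1 : z * i * z⁻¹ * i⁻¹ = u * i * u⁻¹ * i⁻¹ := by
    have h2 : z * i * z⁻¹ = u * i * u⁻¹ := by
      have h3 : z = u * (z * u) := by rw [hzu, ← mul_assoc, huu, one_mul]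
      conv_lhs => rw [h3]
      calc u * (z * u) * i * (u * (z * u))⁻¹ = u * ((z * u) * i * (z * u)⁻¹) * u⁻¹ := by group
        _ = u * i * u⁻¹ := by rw [hc, mul_inv_cancel_right]
    rw [h2]
  obtain ⟨h7, h8⟩ := qq_ne hz h hK hti.1 hii
  have hxx := hK.inZ.z2 h
  refine ⟨i, z * i * z⁻¹ * i⁻¹, hti, hii, a1, a2, a3, by rw [h1]; exact b3, rfl, h1, a4, by rw [b4, h1], a5,
    NZ_sq h W.l0 (W.ant p Tm.prd) a1, fun h9 => ?_, fun h9 => ?_⟩
  · rw [a3] at h9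
    apply h8
    rw [← inv_eq_of_mul_eq_one_right hxx]
    exact (inv_eq_of_mul_eq_one_right h9).symm
  · rw [a3] at h9
    exact h7 (mul_eq_left.1 h9)

/-- **TYPES** -/
theorem types (W : TW Om) (p : PR Om z u) (hxZ : InZ Om x) (hx : PC z u x) (hf : Free Om z u x) :
    (Ff Om x z ∧ Ff Om x u ∧ Inn Om x (z * u)) ∨ (TI Om x z ∧ Swp Om x u ∧ Swp Om x (z * u)) ∨
      (TI Om x u ∧ Swp Om x z ∧ Swp Om x (z * u)) ∨ (Swp Om x z ∧ Swp Om x u ∧ Inn Om x (z * u)) ∨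
      ∃ t₁ t₂, Tm z u t₁ ∧ Tm z u t₂ ∧ t₁ ≠ t₂ ∧ Swp Om x t₁ ∧ Swp Om x t₂ ∧ Ff Om x (t₁ * t₂) := by
  have h := W.w
  have hzu := p.comm h
  have hzz := p.hz.z2 h
  have huu := p.hu.z2 h
  obtain ⟨n1, n2, n3, n4⟩ := hf.ne p h
  obtain ⟨K, hK⟩ := hxZ
  obtain ⟨L, hL, hne, -⟩ := hK.other h
  have hsx : (z * u) * x = x * (z * u) := (hx.comm Tm.prd).symm
  -- the types of `z` and `u`
  have tz : TI Om x z ∨ Swp Om x z ∨ Ff Om x z := by
    rcases tri h hK.inZ p.hz n1 hx.1 with h1 | h1 | h1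
    · exact absurd h1 n3
    · exact Or.inl h1
    · exact Or.inr h1.1.cases
  have tu : TI Om x u ∨ Swp Om x u ∨ Ff Om x u := by
    rcases tri h hK.inZ p.hu n2 hx.2 with h1 | h1 | h1
    · exact absurd h1 n4
    · exact Or.inl h1
    · exact Or.inr h1.1.cases
  have hI : ∀ {t : G}, TI Om x t → ∀ {M : Subgroup G}, Mem Om x M → cj t M = M := fun h1 _ hM => h1.inn.cj_eq hM h
  have hF : ∀ {t : G}, Ff Om x t → ∀ {M : Subgroup G}, Mem Om x M → cj t M = M := fun h1 _ hM => (h1.2 _ hM).1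
  -- fixing times swap
  have hmul : (∀ M : Subgroup G, Mem Om x M → cj z M = M) → Swp Om x u → Swp Om x (z * u) := by
    intro h1 h2
    refine Swp.of_one h hK hsx ?_
    rw [cj_mul, h1 _ (h2.mem h hK)]
    exact h2.2 K hK
  have hmul' : (∀ M : Subgroup G, Mem Om x M → cj u M = M) → Swp Om x z → Swp Om x (z * u) := by
    intro h1 h2
    refine Swp.of_one h hK hsx ?_
    rw [cj_mul, h1 _ hK]
    exact h2.2 K hK
  rcases tz with hz | hz | hz <;> rcases tu with hu | hu | hu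
  · exact absurd (tt_II_cx h p.cp hz hu) (hf _ Tm.prd)
  · exact Or.inr (Or.inl ⟨hz, hu, hmul (fun M hM => hI hz hM) hu⟩)
  · exact (tt_If h p.cp hz p.hu hu).elim
  · exact Or.inr (Or.inr (Or.inl ⟨hu, hz, hmul' (fun M hM => hI hu hM) hz⟩))
  · -- both swaps
    have hsw : Swp Om x z := hz
    have hsK : cj (z * u) K = K := by
      rcases cj_cases h hK hL hne (show z * x = x * z from hz.1) with h1 | h1
      · exact absurd h1.1 (hz.2 K hK)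
      rcases cj_cases h hK hL hne (show u * x = x * u from hu.1) with h2 | h2
      · exact absurd h2.1 (hu.2 K hK)
      rw [cj_mul, h2.1, h1.2]
    have hzs : z * (z * u) = (z * u) * z := Tm.comm Tm.fst Tm.prd p h
    have hss : (z * u) * (z * u) = 1 := Tm.sq Tm.prd p h
    rcases h.wr.inn_or_tr hK.1 hsK hss with ⟨i, hi, h1⟩ | ⟨i, hi⟩
    · right; right; right; left
      refine ⟨hz, hu, ?_⟩
      have h2 : As K (z * u) i := ⟨hi, h1⟩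
      have h3 := as_all h2 hzs
      intro M hM k hk
      rcases hK.cases (hsw.mem h hK) h (hsw.ne hK) hM with rfl | rfl
      · rw [h2.2 k hk]; exact hM.comm_or h hk h2.1
      · rw [h3.2 k hk]; exact hM.comm_or h hk h3.1
    · right; right; right; right
      refine ⟨z, u, Tm.fst, Tm.snd, p.cp.1, hz, hu, hsx, fun M hM => ?_⟩
      have hni : ¬ ∀ k ∈ K, (z * u) * k * (z * u)⁻¹ = k ∨ (z * u) * k * (z * u)⁻¹ = x * k := by
        intro h1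
        obtain ⟨c, hc⟩ := h.exists_q3 hK
        refine h.wr.not_inn hK.1 hi ?_
        rcases hc.inner_cases h1 with h2 | ⟨l, h2⟩
        · exact ⟨1, one_mem K, fun k hk => by rw [h2 k hk]; group⟩
        · exact ⟨c l, hc.mem l, h2⟩
      rcases hK.cases (hsw.mem h hK) h (hsw.ne hK) hM with rfl | rfl
      · exact ⟨hsK, hni⟩
      · constructor
        · rw [← cj_mul, ← hzs, cj_mul, hsK]
        · intro h1
          apply hni
          intro k hk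
          have h2 := h1 _ (conj_mem_cj (g := z) hk)
          have h3 : (z * u) * (z * k * z⁻¹) * (z * u)⁻¹ = z * ((z * u) * k * (z * u)⁻¹) * z⁻¹ := by
            calc (z * u) * (z * k * z⁻¹) * (z * u)⁻¹ = ((z * u) * z) * k * ((z * u) * z)⁻¹ := by group
              _ = (z * (z * u)) * k * (z * (z * u))⁻¹ := by rw [hzs]
              _ = _ := by group
          rw [h3] at h2
          rcases h2 with h2 | h2
          · left; exact mul_left_cancel (mul_right_cancel h2)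
          · right
            have h4 : x * (z * k * z⁻¹) = z * (x * k) * z⁻¹ := by
              calc x * (z * k * z⁻¹) = (x * z) * k * z⁻¹ := by group
                _ = _ := by rw [← hz.1]; group
            rw [h4] at h2
            exact mul_left_cancel (mul_right_cancel h2)
  · -- `z` swap, `u` of type `f`
    right; right; right; right
    refine ⟨z, z * u, Tm.fst, Tm.prd, fun h1 => p.hu.z1 h (mul_eq_left.1 h1.symm), hz,
      hmul' (fun M hM => hF hu hM) hz, ?_⟩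
    rw [← mul_assoc, hzz, one_mul]; exact hu
  · exact (tt_If h p.symm.cp hu p.hz hz).elim
  · right; right; right; right
    refine ⟨u, z * u, Tm.snd, Tm.prd, fun h1 => p.hz.z1 h (mul_eq_right.1 h1.symm), hu,
      hmul (fun M hM => hF hz hM) hu, ?_⟩
    have h1 : u * (z * u) = z := by rw [hzu, ← mul_assoc, huu, one_mul]
    rw [h1]; exact hz
  · left
    refine ⟨hz, hu, ?_⟩
    intro M hM k hk
    obtain ⟨a, ha⟩ := hz.exists_tr h hzz hM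
    obtain ⟨-, h2⟩ := tt_ff h W.l0 p.cp (W.ant p Tm.prd) p.hz p.hu hz hu hM ha
    rw [h2.2 k hk]
    exact hM.comm_or h hk h2.1

end Fin

end Cfsg.Agent.Cit.Nil.RTwoM.Two
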